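/-
Galois stages inside a strict henselization of a henselian local ring.
-/
import Mathlib
import Groth.Prelude.Def_Hensel
import Groth.Agent.Hensel.Local

set_option autoImplicit false
set_option linter.style.haveILetI false
universe u

open Polynomial IsLocalRing

namespace Groth.Agent.GaloisStage

/-- Congruent roots of a polynomial, one of them simple, are equal. -/
theorem root_unique {T : Type u} [CommRing T] [IsLocalRing T] {p : T[X]} {x y : T} (hx : p.eval x = 0)
    (hy : p.eval y = 0) (hd : IsUnit (p.derivative.eval x)) (hxy : y - x ∈ maximalIdeal T) : y = x := by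
  obtain ⟨z, hz⟩ := p.binomExpansion x (y - x)
  rw [add_sub_cancel, hy, hx] at hz
  have h1 : IsUnit (p.derivative.eval x + z * (y - x)) := by
    by_contra hu
    have h2 : p.derivative.eval x ∈ maximalIdeal T := by
      have := sub_mem ((mem_maximalIdeal _).2 hu) (Ideal.mul_mem_left _ z hxy)
      rwa [add_sub_cancel_right] at this
    exact (mem_maximalIdeal _).1 h2 hd
  have h2 : (y - x) * (p.derivative.eval x + z * (y - x)) = 0 := by linear_combination -hz
  exact sub_eq_zero.1 ((h1.mul_left_eq_zero).1 h2)

variable (A S : Type u) [CommRing A] [CommRing S] [Algebra A S]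

/-- Simple roots of monic polynomials over the base. -/
def IsSimpleRoot (x : S) : Prop := ∃ f : A[X], f.Monic ∧ aeval x f = 0 ∧ IsUnit (aeval x f.derivative)

/-- A Galois stage: a simple root all whose conjugates are polynomials in it. -/
structure Stage [IsLocalRing A] where
  α : S
  f : A[X]
  monic : f.Monic
  root : aeval α f = 0
  simple : IsUnit (aeval α f.derivative)
  irr : Irreducible (f.map (residue A))
  roots : Finset S
  mem : ∀ r ∈ roots, r ∈ Algebra.adjoin A {α}
  prod : f.map (algebraMap A S) = ∏ r ∈ roots, (X - C r)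
  diff : ∀ r ∈ roots, ∀ s ∈ roots, r ≠ s → IsUnit (r - s)
  self_mem : α ∈ roots

variable {A S}

/-- The ring of a stage. -/
def Stage.ring [IsLocalRing A] (st : Stage A S) : Subalgebra A S := Algebra.adjoin A {st.α}

theorem Stage.root_mem [IsLocalRing A] (st : Stage A S) : st.α ∈ st.ring := Algebra.self_mem_adjoin_singleton A st.α

instance [IsLocalRing A] (st : Stage A S) : Module.Finite A st.ring :=
  Module.Finite.iff_fg.2 (IsIntegral.fg_adjoin_singleton ⟨st.f, st.monic, by rw [← aeval_def, st.root]⟩)

variable [IsLocalRing A] [IsLocalRing S] [IsLocalHom (algebraMap A S)]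

theorem residue_aeval (x : S) (p : A[X]) :
    residue S (aeval x p) = aeval (residue S x) (p.map (residue A)) := by
  rw [aeval_def, hom_eval₂, aeval_def, eval₂_map]
  rfl

/-- A finite subalgebra generated by a root of a residually irreducible polynomial. -/
theorem adjoin_root_local {α : S} {f : A[X]} (hf : f.Monic) (hr : aeval α f = 0) (hirr : Irreducible (f.map (residue A))) :
    ∃ _ : IsLocalRing (Algebra.adjoin A ({α} : Set S)), IsLocalHom (algebraMap (Algebra.adjoin A ({α} : Set S)) S) ∧
      maximalIdeal (Algebra.adjoin A ({α} : Set S)) = (maximalIdeal A).map (algebraMap A (Algebra.adjoin A ({α} : Set S))) := by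
  set B := Algebra.adjoin A ({α} : Set S) with hB
  haveI : Module.Finite A B := Module.Finite.iff_fg.2 (IsIntegral.fg_adjoin_singleton ⟨f, hf, by rw [← aeval_def, hr]⟩)
  let I := (maximalIdeal A).map (algebraMap A B)
  have hI : I ≠ ⊤ := fun h => (maximalIdeal.isMaximal S).ne_top <| top_le_iff.1 <| by
    have h1 : I.map (algebraMap B S) ≤ maximalIdeal S := by
      rw [Ideal.map_map, ← IsScalarTower.algebraMap_eq, Ideal.map_le_iff_le_comap]
      intro a ha
      rw [Ideal.mem_comap, mem_maximalIdeal, mem_nonunits_iff]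
      exact fun hu => (mem_maximalIdeal a).1 ha (isUnit_of_map_unit (algebraMap A S) a hu)
    rwa [h, Ideal.map_top] at h1
  haveI : Nontrivial (B ⧸ I) := Ideal.Quotient.nontrivial_iff.2 hI
  let ψ : (ResidueField A)[X] →+* B ⧸ I := eval₂RingHom (Ideal.Quotient.lift (maximalIdeal A)
    ((Ideal.Quotient.mk I).comp (algebraMap A B)) fun a ha => Ideal.Quotient.eq_zero_iff_mem.2 (Ideal.mem_map_of_mem _ ha))
    (Ideal.Quotient.mk I ⟨α, Algebra.self_mem_adjoin_singleton A α⟩)
  have hψ : ∀ p : A[X], ψ (p.map (residue A)) = Ideal.Quotient.mk I (aeval (⟨α, Algebra.self_mem_adjoin_singleton A α⟩ : B) p) := fun p => by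
    show eval₂ _ _ _ = _
    rw [eval₂_map, aeval_def, hom_eval₂]
    rfl
  have hsurj : Function.Surjective ψ := fun z => by
    obtain ⟨⟨b, hb⟩, rfl⟩ := Ideal.Quotient.mk_surjective z
    have hb' : b ∈ Algebra.adjoin A ({α} : Set S) := hb
    rw [Algebra.adjoin_singleton_eq_range_aeval] at hb'
    obtain ⟨p, rfl⟩ := hb'
    refine ⟨p.map (residue A), (hψ p).trans (congrArg _ (Subtype.ext ?_))⟩
    rw [← Subalgebra.val_apply, ← aeval_algHom_apply]
    rfl
  have hker : RingHom.ker ψ = Ideal.span {f.map (residue A)} := by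
    haveI := PrincipalIdealRing.isMaximal_of_irreducible hirr
    refine (Ideal.IsMaximal.eq_of_le (‹(Ideal.span {f.map (residue A)}).IsMaximal›) (RingHom.ker_ne_top ψ) ?_).symm
    rw [Ideal.span_le, Set.singleton_subset_iff, SetLike.mem_coe, RingHom.mem_ker, hψ]
    rw [show aeval (⟨α, Algebra.self_mem_adjoin_singleton A α⟩ : B) f = 0 from Subtype.ext (by
      rw [← Subalgebra.val_apply, ← aeval_algHom_apply]; exact hr), map_zero]
  haveI hmax : I.IsMaximal := by
    haveI : (RingHom.ker ψ).IsMaximal := by rw [hker]; exact PrincipalIdealRing.isMaximal_of_irreducible hirr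
    refine Ideal.Quotient.maximal_of_isField _ ?_
    exact MulEquiv.isField (Ideal.Quotient.maximal_ideal_iff_isField_quotient _ |>.1 ‹(RingHom.ker ψ).IsMaximal›)
      (RingHom.quotientKerEquivOfSurjective hsurj).symm.toMulEquiv
  haveI : Algebra.IsIntegral A B := Algebra.IsIntegral.of_finite A B
  haveI hloc : IsLocalRing B := IsLocalRing.of_unique_max_ideal ⟨I, hmax, fun M hM => by
    haveI := hM
    refine (hmax.eq_of_le hM.ne_top (Ideal.map_le_iff_le_comap.2 ?_)).symm
    rw [IsLocalRing.eq_maximalIdeal (Ideal.isMaximal_comap_of_isIntegral_of_isMaximal (R := A) M)]⟩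
  have hm : maximalIdeal B = I := (IsLocalRing.eq_maximalIdeal hmax).symm
  refine ⟨hloc, ⟨fun b hb => ?_⟩, hm⟩
  by_contra hu
  have h1 : b ∈ I := hm ▸ (mem_maximalIdeal b).2 hu
  have h2 : I.map (algebraMap B S) ≤ maximalIdeal S := by
    rw [Ideal.map_map, ← IsScalarTower.algebraMap_eq, Ideal.map_le_iff_le_comap]
    intro a ha
    rw [Ideal.mem_comap, mem_maximalIdeal, mem_nonunits_iff]
    exact fun hua => (mem_maximalIdeal a).1 ha (isUnit_of_map_unit (algebraMap A S) a hua)
  exact (mem_maximalIdeal _).1 (h2 (Ideal.mem_map_of_mem _ h1)) hb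

instance Stage.instIsLocalRing (st : Stage A S) : IsLocalRing st.ring :=
  (adjoin_root_local st.monic st.root st.irr).choose

instance Stage.instIsLocalHom (st : Stage A S) : IsLocalHom (algebraMap st.ring S) :=
  (adjoin_root_local st.monic st.root st.irr).choose_spec.1

theorem Stage.maximalIdeal_eq (st : Stage A S) :
    maximalIdeal st.ring = (maximalIdeal A).map (algebraMap A st.ring) :=
  (adjoin_root_local st.monic st.root st.irr).choose_spec.2

end Groth.Agent.GaloisStage
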