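/-
Every finite subset of a strict henselization of a henselian local ring lies in a Galois stage.
-/
import Mathlib
import Groth.Agent.GaloisStage.Stage

set_option autoImplicit false
set_option linter.style.haveILetI false
universe u

open Polynomial IsLocalRing

namespace Groth.Agent.GaloisStage

variable {A S : Type u} [CommRing A] [HenselianLocalRing A] [CommRing S] [IsLocalRing S] [Algebra A S]
  [IsLocalHom (algebraMap A S)]

/-- An element of a generated subalgebra uses finitely many generators. -/
theorem exists_finset_adjoin {s : Set S} {x : S} (hx : x ∈ Algebra.adjoin A s) :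
    ∃ F : Finset S, (↑F : Set S) ⊆ s ∧ x ∈ Algebra.adjoin A (F : Set S) := by
  classical
  induction hx using Algebra.adjoin_induction with
  | mem x hx => exact ⟨{x}, by simpa using hx, Algebra.subset_adjoin (by simp)⟩
  | algebraMap r => exact ⟨∅, by simp, Subalgebra.algebraMap_mem _ r⟩
  | add x y _ _ hx hy =>
    obtain ⟨F, hF, hxF⟩ := hx
    obtain ⟨G, hG, hyG⟩ := hy
    exact ⟨F ∪ G, by simp [hF, hG], add_mem (Algebra.adjoin_mono (by simp) hxF) (Algebra.adjoin_mono (by simp) hyG)⟩
  | mul x y _ _ hx hy =>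
    obtain ⟨F, hF, hxF⟩ := hx
    obtain ⟨G, hG, hyG⟩ := hy
    exact ⟨F ∪ G, by simp [hF, hG], mul_mem (Algebra.adjoin_mono (by simp) hxF) (Algebra.adjoin_mono (by simp) hyG)⟩

/-- Residue roots in a finite local subalgebra lift. -/
theorem lift_root {B : Subalgebra A S} [IsLocalRing B] [IsLocalHom (algebraMap B S)] [Module.Finite A B]
    {g : A[X]} (hg : g.Monic) (b₀ : B) (h0 : residue S (aeval (b₀ : S) g) = 0)
    (h1 : IsUnit (aeval (b₀ : S) g.derivative)) :
    ∃ b : B, aeval (b : S) g = 0 ∧ residue S (b : S) = residue S (b₀ : S) ∧ IsUnit (aeval (b : S) g.derivative) := by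
  haveI : Algebra.IsIntegral A B := Algebra.IsIntegral.of_finite A B
  haveI : HenselianLocalRing B := Hensel.henselianLocalRing_finite A B
  have he : ∀ (c : B) (p : A[X]), (((p.map (algebraMap A B)).eval c : B) : S) = aeval (c : S) p := fun c p => by
    rw [eval_map_algebraMap, ← Subalgebra.val_apply, ← aeval_algHom_apply]
    rfl
  obtain ⟨b, hb, hbb⟩ := HenselianLocalRing.is_henselian (g.map (algebraMap A B)) (hg.map _) b₀ (by
      rw [mem_maximalIdeal, mem_nonunits_iff]
      intro hu
      have := hu.map (algebraMap B S)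
      rw [show algebraMap B S ((g.map (algebraMap A B)).eval b₀) = aeval (b₀ : S) g from he b₀ g] at this
      exact (residue_ne_zero_iff_isUnit _).2 this h0)
    (isUnit_of_map_unit (algebraMap B S) _ (by
      rw [derivative_map]
      rwa [show algebraMap B S ((g.derivative.map (algebraMap A B)).eval b₀) = aeval (b₀ : S) g.derivative from he b₀ _]))
  have hres : residue S (b : S) = residue S (b₀ : S) := by
    rw [← sub_eq_zero, ← map_sub, residue_eq_zero_iff, mem_maximalIdeal, mem_nonunits_iff]
    exact fun hu => (mem_maximalIdeal _).1 hbb (isUnit_of_map_unit (algebraMap B S) (b - b₀) hu)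
  refine ⟨b, ?_, hres, ?_⟩
  · rw [← he, show (g.map (algebraMap A B)).eval b = 0 from hb]; rfl
  · rw [← residue_ne_zero_iff_isUnit, residue_aeval, hres, ← residue_aeval, residue_ne_zero_iff_isUnit]
    exact h1

variable [hS : Hensel.IsStrictHenselization A S]

include hS in
theorem exists_simpleRoot (a₀ : ResidueField S) :
    ∃ (α : S) (f : A[X]), f.Monic ∧ aeval α f = 0 ∧ IsUnit (aeval α f.derivative) ∧ residue S α = a₀ ∧
      f.map (residue A) = minpoly (ResidueField A) a₀ := by
  haveI := hS.henselian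
  haveI := hS.isSepClosure
  have hint : IsIntegral (ResidueField A) a₀ := Algebra.IsIntegral.isIntegral a₀
  obtain ⟨f, hfm, -, hf⟩ := lifts_and_degree_eq_and_monic (f := residue A)
    (p := minpoly (ResidueField A) a₀) (by
      rw [mem_lifts]; exact Polynomial.map_surjective _ residue_surjective _) (minpoly.monic hint)
  obtain ⟨s₀, rfl⟩ := residue_surjective a₀
  have hd : IsUnit (aeval s₀ f.derivative) := by
    rw [← residue_ne_zero_iff_isUnit, residue_aeval, ← derivative_map, hfm]
    exact (Algebra.IsSeparable.isSeparable (ResidueField A) (residue S s₀)).aeval_derivative_ne_zero (minpoly.aeval _ _)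
  have he : ∀ (c : S) (p : A[X]), (p.map (algebraMap A S)).eval c = aeval c p := fun c p => eval_map_algebraMap _ _
  obtain ⟨α, hα, hαs⟩ := HenselianLocalRing.is_henselian (f.map (algebraMap A S)) (hf.map _) s₀ (by
      rw [← residue_eq_zero_iff, he, residue_aeval, hfm, minpoly.aeval])
    (by rwa [derivative_map, he])
  have hres : residue S α = residue S s₀ := by rw [← sub_eq_zero, ← map_sub, residue_eq_zero_iff]; exact hαs
  refine ⟨α, f, hf, (he α f).symm.trans hα, ?_, hres, hfm⟩
  rw [← residue_ne_zero_iff_isUnit, residue_aeval, hres, ← residue_aeval, residue_ne_zero_iff_isUnit]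
  exact hd

include hS in
/-- Finitely many simple roots lie in one stage. -/
theorem exists_stage_simpleRoots (F : Finset S) (hF : ∀ x ∈ F, IsSimpleRoot A S x) :
    ∃ st : Stage A S, ∀ x ∈ F, x ∈ st.ring := by
  classical
  haveI := hS.isSepClosure
  let k := ResidueField A
  let Ω := ResidueField S
  haveI : IsGalois k Ω := inferInstance
  let M0 : IntermediateField k Ω := IntermediateField.adjoin k ((F.image (residue S) : Finset Ω) : Set Ω)
  haveI : FiniteDimensional k M0 := IntermediateField.finiteDimensional_adjoin fun x _ => Algebra.IsIntegral.isIntegral x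
  let M : IntermediateField k Ω := IntermediateField.normalClosure k M0 Ω
  haveI : Algebra.IsSeparable k M := Algebra.isSeparable_tower_bot_of_isSeparable k M Ω
  obtain ⟨a, ha⟩ := Field.exists_primitive_element k M
  obtain ⟨α, f, hf, hroot, hsimp, hres, hfk⟩ := exists_simpleRoot (A := A) (a : Ω)
  have hint : IsIntegral k (a : Ω) := Algebra.IsIntegral.isIntegral _
  have hirr : Irreducible (f.map (residue A)) := hfk ▸ minpoly.irreducible hint
  obtain ⟨hBl, hBh, -⟩ := adjoin_root_local hf hroot hirr
  haveI := hBl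
  haveI := hBh
  set B := Algebra.adjoin A ({α} : Set S) with hB
  haveI : Module.Finite A B := Module.Finite.iff_fg.2 (IsIntegral.fg_adjoin_singleton ⟨f, hf, by rw [← aeval_def, hroot]⟩)
  have hM : M = IntermediateField.adjoin k {(a : Ω)} := by
    have h1 := congrArg (IntermediateField.map M.val) ha
    rw [IntermediateField.adjoin_map, ← AlgHom.fieldRange_eq_map, IntermediateField.fieldRange_val, Set.image_singleton] at h1
    exact h1.symm
  have hcov : ∀ y ∈ M, ∃ b : B, residue S (b : S) = y := by
    intro y hy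
    rw [hM] at hy
    have hy' : y ∈ Algebra.adjoin k ({(a : Ω)} : Set Ω) := by
      rw [← IntermediateField.adjoin_simple_toSubalgebra_of_isAlgebraic hint.isAlgebraic]
      exact hy
    rw [Algebra.adjoin_singleton_eq_range_aeval] at hy'
    obtain ⟨p, rfl⟩ := hy'
    obtain ⟨q, rfl⟩ := Polynomial.map_surjective _ residue_surjective p
    refine ⟨⟨aeval α q, aeval_mem_adjoin_singleton A α⟩, ?_⟩
    show residue S (aeval α q) = aeval (a : Ω) (q.map (residue A))
    rw [residue_aeval, hres]
  have hsep : (minpoly k (a : Ω)).Separable := Algebra.IsSeparable.isSeparable k _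
  let p0 := minpoly k (a : Ω)
  let R0 : Finset Ω := (p0.aroots Ω).toFinset
  have hmemM : ∀ y ∈ R0, y ∈ M := fun y hy => by
    have hy1 : aeval y p0 = 0 := (mem_aroots.1 (Multiset.mem_toFinset.1 hy)).2
    haveI : Normal k M := normalClosure.normal k M0 Ω
    have hspl : ((minpoly k a).map (algebraMap k M)).Splits := Normal.splits inferInstance a
    have hp : minpoly k a = p0 := (minpoly.algHom_eq M.val M.val.injective a).symm
    obtain ⟨z, hz⟩ := hspl.mem_range_of_isRoot (map_ne_zero (minpoly.ne_zero (Algebra.IsIntegral.isIntegral a)))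
      (i := algebraMap M Ω) (x := y) (by
      rw [IsRoot.def, eval_map, eval₂_map, ← IsScalarTower.algebraMap_eq, ← aeval_def, hp]; exact hy1)
    rw [← hz]
    exact z.2
  have hsimple0 : ∀ y ∈ R0, ∃ r : B, aeval (r : S) f = 0 ∧ residue S (r : S) = y ∧ IsUnit (aeval (r : S) f.derivative) := fun y hy => by
    obtain ⟨b₀, hb₀⟩ := hcov y (hmemM y hy)
    have hy1 : aeval y p0 = 0 := (mem_aroots.1 (Multiset.mem_toFinset.1 hy)).2
    obtain ⟨b, h1, h2, h3⟩ := lift_root hf b₀ (by rw [residue_aeval, hb₀, hfk]; exact hy1) (by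
      rw [← residue_ne_zero_iff_isUnit, residue_aeval, hb₀, ← derivative_map, hfk]
      exact hsep.aeval_derivative_ne_zero hy1)
    exact ⟨b, h1, h2.trans hb₀, h3⟩
  choose r hr0 hr1 hr2 using hsimple0
  let R : Finset S := R0.attach.image fun y => (r y.1 y.2 : S)
  have hrinj : Function.Injective fun y : {y // y ∈ R0} => (r y.1 y.2 : S) := fun y z h => Subtype.ext (by
    rw [← hr1 y.1 y.2, ← hr1 z.1 z.2]; exact congrArg (residue S) h)
  have hdiff : ∀ x ∈ R, ∀ z ∈ R, x ≠ z → IsUnit (x - z) := by
    intro x hx z hz hne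
    obtain ⟨⟨y, hy⟩, -, rfl⟩ := Finset.mem_image.1 hx
    obtain ⟨⟨w, hw⟩, -, rfl⟩ := Finset.mem_image.1 hz
    rw [← residue_ne_zero_iff_isUnit, map_sub, hr1, hr1, sub_ne_zero]
    rintro rfl
    exact hne rfl
  have hprod : f.map (algebraMap A S) = ∏ x ∈ R, (X - C x) := by
    have hdvd : (∏ x ∈ R, (X - C x)) ∣ f.map (algebraMap A S) := by
      refine Finset.prod_dvd_of_coprime (fun x hx z hz hne => isCoprime_X_sub_C_of_isUnit_sub (hdiff x hx z hz hne)) fun x hx => ?_
      obtain ⟨⟨y, hy⟩, -, rfl⟩ := Finset.mem_image.1 hx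
      rw [dvd_iff_isRoot, IsRoot.def, eval_map_algebraMap]
      exact hr0 y hy
    refine eq_of_monic_of_dvd_of_natDegree_le (monic_prod_of_monic _ _ fun x _ => monic_X_sub_C x) (hf.map _) hdvd ?_
    rw [natDegree_prod_of_monic _ _ fun x _ => monic_X_sub_C x, hf.natDegree_map]
    simp only [natDegree_X_sub_C, Finset.sum_const, smul_eq_mul, mul_one]
    rw [Finset.card_image_of_injective _ hrinj, Finset.card_attach]
    have h1 : f.natDegree = p0.natDegree := by
      show _ = (minpoly k (a : Ω)).natDegree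
      rw [← hfk, hf.natDegree_map]
    haveI := hS.isSepClosure.1
    have h2 := card_rootSet_eq_natDegree (K := Ω) hsep (IsSepClosed.splits_codomain (K := Ω) (f := algebraMap k Ω) p0 hsep)
    rw [h1, ← h2, ← Set.toFinset_card]
    refine le_of_eq (congrArg Finset.card ?_)
    ext y
    rw [Set.mem_toFinset, rootSet_def, Finset.mem_coe]
  have haR : α ∈ R := by
    have ha0 : (a : Ω) ∈ R0 := Multiset.mem_toFinset.2 (mem_aroots.2 ⟨minpoly.ne_zero hint, minpoly.aeval k _⟩)
    refine Finset.mem_image.2 ⟨⟨_, ha0⟩, Finset.mem_attach _ _, ?_⟩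
    refine (root_unique (p := f.map (algebraMap A S)) (x := α) (y := (r _ ha0 : S)) ?_ ?_ ?_ ?_)
    · rw [eval_map_algebraMap]; exact hroot
    · rw [eval_map_algebraMap]; exact hr0 _ ha0
    · rw [derivative_map, eval_map_algebraMap]; exact hsimp
    · rw [← residue_eq_zero_iff, map_sub, hr1, hres, sub_self]
  refine ⟨⟨α, f, hf, hroot, hsimp, hirr, R, fun x hx => ?_, hprod, hdiff, haR⟩, fun x hx => ?_⟩
  · obtain ⟨⟨y, hy⟩, -, rfl⟩ := Finset.mem_image.1 hx
    exact (r y hy).2
  · obtain ⟨g, hg, hgx, hgd⟩ := hF x hx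
    have hxM : residue S x ∈ M := IntermediateField.le_normalClosure M0
      (IntermediateField.subset_adjoin k _ (Finset.mem_coe.2 (Finset.mem_image_of_mem _ hx)))
    obtain ⟨b₀, hb₀⟩ := hcov _ hxM
    obtain ⟨b, h1, h2, -⟩ := lift_root hg b₀ (by rw [residue_aeval, hb₀, ← residue_aeval, hgx, map_zero]) (by
      rw [← residue_ne_zero_iff_isUnit, residue_aeval, hb₀, ← residue_aeval, residue_ne_zero_iff_isUnit]; exact hgd)
    rw [← root_unique (p := g.map (algebraMap A S)) (x := x) (y := (b : S)) (by rw [eval_map_algebraMap]; exact hgx)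
      (by rw [eval_map_algebraMap]; exact h1) (by rw [derivative_map, eval_map_algebraMap]; exact hgd)
      (by rw [← residue_eq_zero_iff, map_sub, h2, hb₀, sub_self])]
    exact b.2

variable (A S) in
include hS in
/-- A strict henselization is generated by simple roots. -/
theorem adjoin_simpleRoots_eq_top : Algebra.adjoin A {x : S | IsSimpleRoot A S x} = ⊤ := by
  classical
  haveI := hS.henselian
  set U := Algebra.adjoin A {x : S | IsSimpleRoot A S x} with hU
  have hfin : ∀ T : Finset S, (T : Set S) ⊆ U → ∃ st : Stage A S, (T : Set S) ⊆ st.ring ∧ st.ring ≤ U := by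
    intro T hT
    have h1 : ∀ x ∈ T, ∃ F : Finset S, (↑F : Set S) ⊆ {x : S | IsSimpleRoot A S x} ∧ x ∈ Algebra.adjoin A (F : Set S) := fun x hx =>
      exists_finset_adjoin (A := A) (hT hx)
    choose F hF hxF using h1
    obtain ⟨st, hst⟩ := exists_stage_simpleRoots (A := A) (T.attach.biUnion fun x => F x.1 x.2) (fun x hx => by
      obtain ⟨y, -, hy⟩ := Finset.mem_biUnion.1 hx
      exact hF y.1 y.2 hy)
    refine ⟨st, fun x hx => Algebra.adjoin_le (fun z hz => hst z (Finset.mem_biUnion.2 ⟨⟨x, hx⟩, Finset.mem_attach _ _, hz⟩)) (hxF x hx), ?_⟩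
    exact Algebra.adjoin_mono (Set.singleton_subset_iff.2 (show IsSimpleRoot A S st.α from ⟨st.f, st.monic, st.root, st.simple⟩))
  have hunit : ∀ x : U, IsUnit (x : S) → IsUnit x := fun x hu => by
    obtain ⟨st, hxs, hsU⟩ := hfin {(x : S)} (by simp)
    have h1 : IsUnit (⟨(x : S), hxs (by simp)⟩ : st.ring) := isUnit_of_map_unit (algebraMap st.ring S) _ hu
    exact h1.map (Subalgebra.inclusion hsU)
  haveI : IsLocalHom (algebraMap U S) := ⟨hunit⟩
  haveI : IsLocalRing U := RingHom.domain_isLocalRing (algebraMap U S)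
  haveI : IsLocalHom (algebraMap A U) := ⟨fun a ha => isUnit_of_map_unit (algebraMap A S) a (ha.map (algebraMap U S))⟩
  haveI : Algebra.IsIntegral A U := ⟨fun x => (isIntegral_algHom_iff U.val Subtype.val_injective).1 (by
    obtain ⟨st, hxs, hsU⟩ := hfin {(x : S)} (by simp)
    exact IsIntegral.of_mem_of_fg st.ring (Module.Finite.iff_fg.1 (inferInstanceAs (Module.Finite A st.ring))) _ (hxs (by simp)))⟩
  haveI : HenselianLocalRing U := Hensel.henselianLocalRing_finite A U
  have hresb : Function.Bijective (ResidueField.map (algebraMap U S)) := by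
    refine ⟨RingHom.injective _, fun a₀ => ?_⟩
    obtain ⟨α, f, hf, h1, h2, h3, -⟩ := exists_simpleRoot (A := A) a₀
    exact ⟨residue U ⟨α, Algebra.subset_adjoin (show IsSimpleRoot A S α from ⟨f, hf, h1, h2⟩)⟩, h3⟩
  let τ : ResidueField S →+* ResidueField U := (RingEquiv.ofBijective _ hresb).symm.toRingHom
  obtain ⟨g, ⟨hg1, hg2⟩, -⟩ := hS.universal U (algebraMap A U) τ (RingHom.ext fun z => by
    obtain ⟨a, rfl⟩ := residue_surjective z
    refine hresb.1 ?_
    show ResidueField.map (algebraMap U S) ((RingEquiv.ofBijective _ hresb).symm _) = _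
    rw [show ∀ w, ResidueField.map (algebraMap U S) ((RingEquiv.ofBijective _ hresb).symm w) = w from
      (RingEquiv.ofBijective _ hresb).apply_symm_apply]
    rfl)
  haveI : IsLocalHom (algebraMap A S) := ‹_›
  obtain ⟨g0, -, huniq⟩ := hS.universal S (algebraMap A S) (RingHom.id _) (RingHom.id_comp _)
  have hid : (algebraMap U S).comp g = RingHom.id S := by
    rw [huniq ((algebraMap U S).comp g) ⟨by rw [RingHom.comp_assoc, hg1]; rfl, fun x => ?_⟩,
      huniq (RingHom.id S) ⟨RingHom.id_comp _, fun x => rfl⟩]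
    show residue S (algebraMap U S (g x)) = residue S x
    rw [← ResidueField.map_residue, hg2]
    exact (RingEquiv.ofBijective _ hresb).apply_symm_apply _
  refine eq_top_iff.2 fun x _ => ?_
  rw [← RingHom.id_apply x, ← hid]
  exact (g x).2

variable (A) in
include hS in
/-- Every finite subset lies in a stage. -/
theorem exists_stage (T : Finset S) : ∃ st : Stage A S, (T : Set S) ⊆ st.ring := by
  classical
  have h1 : ∀ x ∈ T, ∃ F : Finset S, (↑F : Set S) ⊆ {x : S | IsSimpleRoot A S x} ∧ x ∈ Algebra.adjoin A (F : Set S) := fun x hx =>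
    exists_finset_adjoin (A := A) ((adjoin_simpleRoots_eq_top A S).ge Algebra.mem_top)
  choose F hF hxF using h1
  obtain ⟨st, hst⟩ := exists_stage_simpleRoots (A := A) (T.attach.biUnion fun x => F x.1 x.2) (fun x hx => by
    obtain ⟨y, -, hy⟩ := Finset.mem_biUnion.1 hx
    exact hF y.1 y.2 hy)
  exact ⟨st, fun x hx => Algebra.adjoin_le (fun z hz => hst z (Finset.mem_biUnion.2 ⟨⟨x, hx⟩, Finset.mem_attach _ _, hz⟩)) (hxF x hx)⟩

end Groth.Agent.GaloisStage
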