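/-
A finite group acting faithfully on the residue field of a local ring: bases over the fixed subring.
-/
import Mathlib

set_option autoImplicit false
set_option linter.style.haveILetI false
universe u

open IsLocalRing

namespace Groth.Agent.GaloisStage

variable {T : Type u} [CommRing T] [IsLocalRing T] {G : Type u} [Group G] [Fintype G] [MulSemiringAction G T]

/-- Elements whose conjugates have invertible determinant. -/
theorem exists_det_unit (hG : ∀ σ : G, σ ≠ 1 → ∃ x : T, σ • x - x ∉ maximalIdeal T) [DecidableEq G] :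
    ∃ t : G → T, IsUnit (Matrix.det (Matrix.of fun σ i => σ • t i)) := by
  classical
  let M := ResidueField T
  let χ : G → (T →* M) := fun σ => (residue T).toMonoidHom.comp (MulSemiringAction.toRingHom G T σ).toMonoidHom
  have hχ : Function.Injective χ := fun σ τ h => by
    by_contra hne
    obtain ⟨x, hx⟩ := hG (σ⁻¹ * τ) fun h1 => hne (inv_mul_eq_one.1 h1)
    refine hx ?_
    have h1 : residue T (σ • x) = residue T (τ • x) := DFunLike.congr_fun h x
    rw [← sub_eq_zero, ← map_sub, residue_eq_zero_iff, mem_maximalIdeal, mem_nonunits_iff] at h1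
    rw [mem_maximalIdeal, mem_nonunits_iff]
    intro hu
    refine h1 ?_
    have h2 := (hu.map (MulSemiringAction.toRingHom G T σ)).neg
    rw [MulSemiringAction.toRingHom_apply, smul_sub, ← mul_smul, ← mul_assoc, mul_inv_cancel, one_mul, neg_sub] at h2
    exact h2
  have hli : LinearIndependent M fun σ => (χ σ : T → M) := (linearIndependent_monoidHom T M).comp χ hχ
  let v : T → G → M := fun x σ => χ σ x
  have hspan : Submodule.span M (Set.range v) = ⊤ := by
    by_contra hne
    obtain ⟨l, hl0, hl⟩ := Submodule.exists_le_ker_of_lt_top _ (lt_top_iff_ne_top.2 hne)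
    have hc := Fintype.linearIndependent_iff.1 hli (fun σ => l (Pi.single σ 1)) (funext fun x => by
      have h1 : l (v x) = 0 := hl (Submodule.subset_span ⟨x, rfl⟩)
      have h2 : v x = ∑ σ, v x σ • Pi.single σ (1 : M) := funext fun τ => by simp [Finset.sum_apply, Pi.single_apply]
      rw [h2, map_sum] at h1
      simp only [map_smul, smul_eq_mul] at h1
      rw [Finset.sum_apply, Pi.zero_apply, ← h1]
      exact Finset.sum_congr rfl fun σ _ => mul_comm _ _)
    exact hl0 ((Pi.basisFun M G).ext fun σ => by rw [Pi.basisFun_apply, LinearMap.zero_apply]; exact hc σ)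
  obtain ⟨b, hbv, hbspan, hbli⟩ := exists_linearIndependent M (Set.range v)
  rw [hspan] at hbspan
  let β : Module.Basis b M (G → M) := Module.Basis.mk hbli (by rw [Subtype.range_coe, hbspan])
  let e : G ≃ b := (Pi.basisFun M G).indexEquiv β
  choose t ht using fun i : G => hbv (e i).2
  refine ⟨t, ?_⟩
  by_contra hu
  have h0 : residue T (Matrix.det (Matrix.of fun σ i => σ • t i)) = 0 := by rwa [residue_eq_zero_iff, mem_maximalIdeal, mem_nonunits_iff]
  rw [RingHom.map_det] at h0
  have hcols : LinearIndependent M (((residue T).mapMatrix (Matrix.of fun σ i => σ • t i)).col) := by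
    have h1 : ((residue T).mapMatrix (Matrix.of fun σ i => σ • t i)).col = fun i => ((e i : b) : G → M) := funext fun i => (funext fun σ => rfl : _ = v (t i)).trans (ht i)
    rw [h1]
    exact hbli.comp e e.injective
  rw [Matrix.linearIndependent_cols_iff_isUnit, Matrix.isUnit_iff_isUnit_det, h0] at hcols
  exact not_isUnit_zero hcols

/-- Coordinates fixed by the group. -/
theorem exists_fixed_coeff (t : G → T) [DecidableEq G] (ht : IsUnit (Matrix.det (Matrix.of fun σ i => σ • t i))) (x : T) :
    ∃! c : G → T, (∀ i, ∀ σ : G, σ • c i = c i) ∧ x = ∑ i, c i * t i := by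
  classical
  let N : Matrix G G T := Matrix.of fun σ i => σ • t i
  haveI : Invertible N.det := ht.invertible
  haveI : Invertible N := Matrix.invertibleOfDetInvertible N
  have hNinj : Function.Injective N.mulVec := fun a b h => by
    have h1 := congrArg (Matrix.mulVec (⅟N)) h
    rwa [Matrix.mulVec_mulVec, Matrix.mulVec_mulVec, invOf_mul_self, Matrix.one_mulVec, Matrix.one_mulVec] at h1
  let c := (⅟N).mulVec fun σ => σ • x
  have hc : ∀ σ : G, ∑ i, σ • t i * c i = σ • x := fun σ => by
    have h1 : N.mulVec c = fun σ => σ • x := by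
      show N.mulVec ((⅟N).mulVec _) = _
      rw [Matrix.mulVec_mulVec, mul_invOf_self, Matrix.one_mulVec]
    exact congrFun h1 σ
  have hfix : ∀ i, ∀ σ : G, σ • c i = c i := fun i σ => by
    refine congrFun (hNinj (a₁ := fun i => σ • c i) (a₂ := c) (funext fun τ => ?_)) i
    show ∑ i, τ • t i * σ • c i = ∑ i, τ • t i * c i
    rw [hc τ]
    have h2 := congrArg (σ • ·) (hc (σ⁻¹ * τ))
    simp only [Finset.smul_sum, smul_mul'] at h2
    simp only [← mul_smul, mul_inv_cancel_left] at h2
    exact h2
  refine ⟨c, ⟨hfix, ?_⟩, fun d ⟨hd, hxd⟩ => hNinj (funext fun σ => ?_)⟩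
  · have h1 := hc 1
    simp only [one_smul] at h1
    exact (h1.symm.trans (Finset.sum_congr rfl fun i _ => mul_comm _ _))
  · show ∑ i, σ • t i * d i = ∑ i, σ • t i * c i
    rw [hc σ, hxd, Finset.smul_sum]
    exact Finset.sum_congr rfl fun i _ => by rw [smul_mul', hd i σ, mul_comm]

variable {A : Type u} [CommRing A] [Algebra A T] [SMulCommClass G A T]

/-- The maximal ideal of the fixed subring comes from the base. -/
theorem mem_map_of_fixed (hG : ∀ σ : G, σ ≠ 1 → ∃ x : T, σ • x - x ∉ maximalIdeal T) (I : Ideal A) (C : Subalgebra A T)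
    (hC : ∀ y, y ∈ C ↔ ∀ σ : G, σ • y = y) (x : C) (hx : (x : T) ∈ I.map (algebraMap A T)) :
    x ∈ I.map (algebraMap A C) := by
  classical
  obtain ⟨t, ht⟩ := exists_det_unit hG
  have key := exists_fixed_coeff t ht
  obtain ⟨e, he, he1⟩ := (key 1).exists
  let J := I.map (algebraMap A C)
  have hw : ∀ w ∈ I.map (algebraMap A T), ∃ c : G → C, (∀ i, c i ∈ J) ∧ w = ∑ i, (c i : T) * t i := by
    intro w hw
    induction hw using Submodule.span_induction with
    | mem w hw =>
      obtain ⟨a, ha, rfl⟩ := hw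
      refine ⟨fun i => algebraMap A C a * ⟨e i, (hC _).2 (he i)⟩, fun i => J.mul_mem_right _ (Ideal.mem_map_of_mem _ ha), ?_⟩
      rw [← mul_one (algebraMap A T a), he1, Finset.mul_sum]
      exact Finset.sum_congr rfl fun i _ => by rw [← mul_assoc]; rfl
    | zero => exact ⟨0, fun _ => zero_mem _, by simp⟩
    | add u v _ _ hu hv =>
      obtain ⟨c, hc, rfl⟩ := hu
      obtain ⟨d, hd, rfl⟩ := hv
      exact ⟨c + d, fun i => add_mem (hc i) (hd i), by simp [add_mul, Finset.sum_add_distrib]⟩
    | smul r u _ hu =>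
      obtain ⟨c, hc, rfl⟩ := hu
      choose ρ hρ using fun i => (key (r * t i)).exists
      refine ⟨fun j => ∑ i, c i * ⟨ρ i j, (hC _).2 ((hρ i).1 j)⟩, fun j => J.sum_mem fun i _ => J.mul_mem_right _ (hc i), ?_⟩
      simp only [AddSubmonoidClass.coe_finset_sum, MulMemClass.coe_mul, Finset.sum_mul]
      rw [smul_eq_mul, Finset.mul_sum, Finset.sum_comm]
      refine Finset.sum_congr rfl fun i _ => ?_
      rw [mul_left_comm, (hρ i).2, Finset.mul_sum]
      exact Finset.sum_congr rfl fun j _ => by rw [mul_assoc]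
  obtain ⟨c, hc, hxc⟩ := hw _ hx
  have huniq : (fun i => (c i : T)) = fun i => (x : T) * e i :=
    (key (x : T)).unique ⟨fun i σ => (hC _).1 (c i).2 σ, hxc⟩ ⟨fun i σ => by rw [smul_mul', (hC _).1 x.2 σ, he i σ],
      (mul_one (x : T)).symm.trans ((congrArg ((x : T) * ·) he1).trans ((Finset.mul_sum _ _ _).trans (Finset.sum_congr rfl fun i _ => (mul_assoc _ _ _).symm)))⟩
  obtain ⟨j, hj⟩ : ∃ j, IsUnit (e j) := by
    by_contra! hall
    refine (maximalIdeal.isMaximal T).ne_top ((Ideal.eq_top_iff_one _).2 ?_)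
    rw [he1]
    exact Ideal.sum_mem _ fun i _ => Ideal.mul_mem_right _ _ ((mem_maximalIdeal _).2 (hall i))
  have hjfix : (↑hj.unit⁻¹ : T) ∈ C := (hC _).2 fun σ => by
    refine hj.mul_left_cancel ?_
    refine ((congrArg (· * σ • _) (he j σ)).symm.trans ?_)
    rw [← smul_mul', IsUnit.mul_val_inv, smul_one]
  have hxe : x = c j * ⟨↑hj.unit⁻¹, hjfix⟩ := Subtype.ext <| by
    rw [MulMemClass.coe_mul, congrFun huniq j, mul_assoc, IsUnit.mul_val_inv, mul_one]
  rw [hxe]
  exact J.mul_mem_right _ (hc j)

/-- The fixed subalgebra is a direct summand. -/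
theorem exists_retraction (hG : ∀ σ : G, σ ≠ 1 → ∃ x : T, σ • x - x ∉ maximalIdeal T) (C : Subalgebra A T)
    (hC : ∀ y, y ∈ C ↔ ∀ σ : G, σ • y = y) :
    ∃ r : T →ₗ[C] C, ∀ c : C, r c = c := by
  classical
  obtain ⟨t, ht⟩ := exists_det_unit hG
  have key := exists_fixed_coeff t ht
  choose co hco hcu using key
  obtain ⟨j, hj⟩ : ∃ j, IsUnit (co 1 j) := by
    by_contra! hall
    refine (maximalIdeal.isMaximal T).ne_top ((Ideal.eq_top_iff_one _).2 ?_)
    rw [(hco 1).2]
    exact Ideal.sum_mem _ fun i _ => Ideal.mul_mem_right _ _ ((mem_maximalIdeal _).2 (hall i))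
  have hjfix : (↑hj.unit⁻¹ : T) ∈ C := (hC _).2 fun σ => by
    refine hj.mul_left_cancel ?_
    refine ((congrArg (· * σ • _) ((hco 1).1 j σ)).symm.trans ?_)
    rw [← smul_mul', IsUnit.mul_val_inv, smul_one]
  have hadd : ∀ x y, co (x + y) = co x + co y := fun x y => (hcu (x + y) (co x + co y) ⟨fun i σ => by
      simp only [Pi.add_apply, smul_add, (hco x).1 i σ, (hco y).1 i σ],
    by simp only [Pi.add_apply, add_mul, Finset.sum_add_distrib, ← (hco x).2, ← (hco y).2]⟩).symm
  have hsmul : ∀ (c : C) x, co ((c : T) * x) = fun i => (c : T) * co x i := fun c x =>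
    (hcu _ (fun i => (c : T) * co x i) ⟨fun i σ => by rw [smul_mul', (hC _).1 c.2 σ, (hco x).1 i σ],
      by conv_lhs => rw [(hco x).2, Finset.mul_sum]
         exact Finset.sum_congr rfl fun i _ => (mul_assoc _ _ _).symm⟩).symm
  refine ⟨{ toFun := fun x => ⟨co x j * ↑hj.unit⁻¹, mul_mem ((hC _).2 ((hco x).1 j)) hjfix⟩,
            map_add' := fun x y => Subtype.ext (by simp only [hadd, Pi.add_apply, add_mul]; rfl),
            map_smul' := fun c x => Subtype.ext ?_ }, fun c => Subtype.ext ?_⟩
  · show co (c • x) j * _ = (c : T) * (co x j * _)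
    rw [show c • x = (c : T) * x from rfl, hsmul, mul_assoc]
  · show co (c : T) j * _ = (c : T)
    rw [← mul_one (c : T), hsmul, mul_assoc, IsUnit.mul_val_inv]

end Groth.Agent.GaloisStage
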