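/-
Intersections of intermediate fields with Galois stages.
-/
import Mathlib
import Groth.Agent.GaloisStage.Fixed
import Groth.Agent.GaloisStage.Exists

set_option autoImplicit false
set_option linter.style.haveILetI false
universe u

open Polynomial IsLocalRing

namespace Groth.Agent.GaloisStage

variable {A S W : Type u} [CommRing A] [CommRing S] [Algebra A S] [CommRing W] [Algebra A W] (π : S →ₐ[A] W)

theorem mem_stage_image [IsLocalRing A] (st : Stage A S) {w : W} (hw : w ∈ st.ring.map π) :
    ∃ p : A[X], w = aeval (π st.α) p := by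
  rw [Subalgebra.mem_map] at hw
  obtain ⟨x, hx, rfl⟩ := hw
  rw [Stage.ring, Algebra.adjoin_singleton_eq_range_aeval] at hx
  obtain ⟨p, rfl⟩ := hx
  exact ⟨p, (aeval_algHom_apply π _ p).symm⟩

/-- The image of a stage in a domain, cut by a field containing the base, is the fixed ring of a group. -/
theorem exists_group [IsLocalRing A] [IsLocalRing S] [IsDomain W] (st : Stage A S) (K : Type u) [Field K] [Algebra W K]
    [FaithfulSMul W K] [Algebra A K] [IsScalarTower A W K] (L : Subfield K) (hL : ∀ a, algebraMap A K a ∈ L) :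
    ∃ (G : Type u) (_ : Group G) (_ : Fintype G) (_ : MulSemiringAction G ↥(st.ring.map π))
      (_ : SMulCommClass G A ↥(st.ring.map π)),
      (∀ σ : G, σ ≠ 1 → ∃ x : ↥(st.ring.map π), IsUnit ((σ • x - x : ↥(st.ring.map π)) : W) ) ∧
        ∀ x : ↥(st.ring.map π), algebraMap W K x ∈ L ↔ ∀ σ : G, σ • x = x := by
  classical
  set T := st.ring.map π with hT
  have hinj : Function.Injective (algebraMap W K) := FaithfulSMul.algebraMap_injective W K
  let αK : K := algebraMap W K (π st.α)
  let p : L[X] := st.f.map ((algebraMap A K).codRestrict L hL)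
  let φ : S →+* K := (algebraMap W K).comp π.toRingHom
  have hφA : φ.comp (algebraMap A S) = algebraMap A K := RingHom.ext fun a => by
    show algebraMap W K (π (algebraMap A S a)) = _
    rw [AlgHom.commutes, ← IsScalarTower.algebraMap_apply]
  have hpK : p.map (algebraMap L K) = ∏ r ∈ st.roots, (X - C (φ r)) := by
    have h1 := congrArg (Polynomial.map φ) st.prod
    rw [Polynomial.map_map, hφA, Polynomial.map_prod] at h1
    simp only [Polynomial.map_sub, map_X, map_C] at h1
    rw [← h1, Polynomial.map_map]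
    rfl
  have hrinj : ∀ r ∈ st.roots, ∀ s ∈ st.roots, φ r = φ s → r = s := fun r hr s hs h => by
    by_contra hne
    have := (st.diff r hr s hs hne).map φ
    rw [map_sub, h, sub_self] at this
    exact not_isUnit_zero this
  have hsep : p.Separable := by
    rw [← separable_map (algebraMap L K), hpK]
    exact separable_prod_X_sub_C_iff'.2 hrinj
  have hp0 : p ≠ 0 := hsep.ne_zero
  have hsplit : (p.map (algebraMap L K)).Splits := by
    rw [hpK]; exact Splits.prod fun r _ => Splits.X_sub_C _
  let E : IntermediateField L K := IntermediateField.adjoin L (p.rootSet K)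
  haveI : p.IsSplittingField L E := IntermediateField.adjoin_rootSet_isSplittingField hsplit
  haveI : IsGalois L E := IsGalois.of_separable_splitting_field hsep
  haveI : FiniteDimensional L E := Polynomial.IsSplittingField.finiteDimensional E p
  have hroots : ∀ y : K, aeval y p = 0 ↔ ∃ r ∈ st.roots, φ r = y := fun y => by
    rw [aeval_def, eval₂_eq_eval_map, hpK, eval_prod, Finset.prod_eq_zero_iff]
    simp only [eval_sub, eval_X, eval_C]
    exact exists_congr fun r => and_congr_right fun _ => sub_eq_zero.trans eq_comm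
  have hαE : αK ∈ E := IntermediateField.subset_adjoin L _ ((mem_rootSet_of_ne hp0).2
    ((hroots αK).2 ⟨st.α, st.self_mem, rfl⟩))
  have hAE : ∀ a : A, algebraMap A K a ∈ E := fun a => E.algebraMap_mem ⟨_, hL a⟩
  have hTE : ∀ x : T, algebraMap W K x ∈ E := fun x => by
    obtain ⟨q, hq⟩ := mem_stage_image π st x.2
    rw [hq, ← aeval_algebraMap_apply, aeval_eq_sum_range]
    exact sum_mem fun i _ => by rw [Algebra.smul_def]; exact mul_mem (hAE _) (pow_mem hαE _)
  have hmove : ∀ (σ : Gal(E/L)) (x : T), ∃ y : T, algebraMap W K y = (σ ⟨_, hTE x⟩ : E) := by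
    intro σ x
    obtain ⟨r, hr, hre⟩ := (hroots (σ ⟨αK, hαE⟩ : E)).1 (by
      have h1 : aeval (σ ⟨αK, hαE⟩ : E) p = 0 := by
        rw [aeval_algHom_apply σ, show aeval (⟨αK, hαE⟩ : E) p = 0 from Subtype.ext (by
          rw [← IntermediateField.coe_val, ← aeval_algHom_apply]
          exact (hroots αK).2 ⟨st.α, st.self_mem, rfl⟩), map_zero]
      rw [← IntermediateField.coe_val, aeval_algHom_apply, h1, map_zero])
    obtain ⟨q, hq⟩ := mem_stage_image π st x.2
    let rT : T := ⟨π r, Subalgebra.mem_map.2 ⟨r, st.mem r hr, rfl⟩⟩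
    refine ⟨aeval rT q, ?_⟩
    have hx : (⟨_, hTE x⟩ : E) = ∑ i ∈ Finset.range (q.natDegree + 1), (⟨algebraMap A K (q.coeff i), hAE _⟩ : E) * ⟨αK, hαE⟩ ^ i := Subtype.ext <| by
      show algebraMap W K x.1 = _
      rw [hq, ← aeval_algebraMap_apply, aeval_eq_sum_range]
      push_cast
      exact Finset.sum_congr rfl fun i _ => Algebra.smul_def _ _
    rw [hx, map_sum, ← Subalgebra.val_apply, ← aeval_algHom_apply, ← aeval_algebraMap_apply, aeval_eq_sum_range]
    push_cast
    refine Finset.sum_congr rfl fun i _ => ?_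
    rw [map_mul, map_pow, show σ (⟨algebraMap A K (q.coeff i), hAE _⟩ : E) = algebraMap L E ⟨_, hL _⟩ from σ.commutes ⟨_, hL _⟩]
    push_cast
    rw [← hre, Algebra.smul_def]
    rfl
  choose act hact using hmove
  have hext : ∀ a b : T, algebraMap W K a = algebraMap W K b → a = b := fun a b h => Subtype.ext (hinj h)
  have hact' : ∀ σ x, (⟨_, hTE (act σ x)⟩ : E) = σ ⟨_, hTE x⟩ := fun σ x => Subtype.ext (hact σ x)
  letI : MulSemiringAction Gal(E/L) T :=
    { smul := act
      one_smul := fun x => hext _ _ (hact 1 x)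
      mul_smul := fun σ τ x => hext _ _ (by
        show algebraMap W K (act (σ * τ) x) = algebraMap W K (act σ (act τ x))
        rw [hact, hact, hact']
        rfl)
      smul_zero := fun σ => hext _ _ (by
        show algebraMap W K (act σ 0) = algebraMap W K ((0 : T) : W)
        rw [hact, show (⟨_, hTE 0⟩ : E) = 0 from Subtype.ext (map_zero _), map_zero, ZeroMemClass.coe_zero, ZeroMemClass.coe_zero, map_zero])
      smul_add := fun σ x y => hext _ _ (by
        show algebraMap W K (act σ (x + y)) = algebraMap W K ((act σ x + act σ y : T) : W)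
        rw [hact, show (⟨_, hTE (x + y)⟩ : E) = ⟨_, hTE x⟩ + ⟨_, hTE y⟩ from Subtype.ext (map_add _ _ _), map_add,
          Subalgebra.coe_add]
        refine Eq.trans ?_ (map_add (algebraMap W K) _ _).symm
        rw [hact, hact])
      smul_one := fun σ => hext _ _ (by
        show algebraMap W K (act σ 1) = algebraMap W K ((1 : T) : W)
        rw [hact, show (⟨_, hTE 1⟩ : E) = 1 from Subtype.ext (map_one _), map_one, OneMemClass.coe_one, OneMemClass.coe_one, map_one])
      smul_mul := fun σ x y => hext _ _ (by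
        show algebraMap W K (act σ (x * y)) = algebraMap W K ((act σ x * act σ y : T) : W)
        rw [hact, show (⟨_, hTE (x * y)⟩ : E) = ⟨_, hTE x⟩ * ⟨_, hTE y⟩ from Subtype.ext (map_mul _ _ _), map_mul,
          Subalgebra.coe_mul]
        refine Eq.trans ?_ (map_mul (algebraMap W K) _ _).symm
        rw [hact, hact]) }
  have hfixA : ∀ (σ : Gal(E/L)) (a : A), act σ (algebraMap A T a) = algebraMap A T a := fun σ a => hext _ _ (by
    rw [hact, show (⟨_, hTE (algebraMap A T a)⟩ : E) = algebraMap L E ⟨_, hL a⟩ from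
      Subtype.ext (IsScalarTower.algebraMap_apply A W K a).symm, AlgEquiv.commutes]
    exact IsScalarTower.algebraMap_apply A W K a)
  haveI : SMulCommClass Gal(E/L) A T := ⟨fun σ a x => by
    rw [Algebra.smul_def, Algebra.smul_def, smul_mul']
    exact congrArg (· * _) (hfixA σ a)⟩
  refine ⟨Gal(E/L), inferInstance, Fintype.ofFinite _, inferInstance, inferInstance, fun σ hσ => ?_, fun x => ?_⟩
  · let αT : T := ⟨π st.α, Subalgebra.mem_map.2 ⟨st.α, st.root_mem, rfl⟩⟩
    refine ⟨αT, ?_⟩
    have hne : (σ ⟨αK, hαE⟩ : E) ≠ ⟨αK, hαE⟩ := fun h => hσ <| by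
      have heach : ∀ y ∈ p.rootSet K, ∃ hy : y ∈ E, σ ⟨y, hy⟩ = ⟨y, hy⟩ := fun y hy => by
        obtain ⟨r, hr, rfl⟩ := (hroots y).1 ((mem_rootSet_of_ne hp0).1 hy)
        refine ⟨IntermediateField.subset_adjoin L _ hy, ?_⟩
        have hrm := st.mem r hr
        rw [Algebra.adjoin_singleton_eq_range_aeval] at hrm
        obtain ⟨q, rfl⟩ := hrm
        have hx : (⟨φ (aeval st.α q), IntermediateField.subset_adjoin L _ hy⟩ : E) =
            ∑ i ∈ Finset.range (q.natDegree + 1), algebraMap L E ⟨_, hL (q.coeff i)⟩ * ⟨αK, hαE⟩ ^ i := Subtype.ext <| by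
          show algebraMap W K (π (aeval st.α q)) = _
          rw [← aeval_algHom_apply, ← aeval_algebraMap_apply, aeval_eq_sum_range]
          push_cast
          exact Finset.sum_congr rfl fun i _ => Algebra.smul_def _ _
        refine (congrArg σ hx).trans ((map_sum σ _ _).trans ?_)
        refine Eq.trans ?_ hx.symm
        exact Finset.sum_congr rfl fun i _ => by rw [map_mul, map_pow, AlgEquiv.commutes, h]
      have h2 : σ.toAlgHom = AlgHom.id L E := IntermediateField.adjoin_algHom_ext L fun y hy => (heach y hy).choose_spec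
      exact AlgEquiv.ext fun z => AlgHom.congr_fun h2 z
    obtain ⟨r, hr, hre⟩ := (hroots (σ ⟨αK, hαE⟩ : E)).1 (by
      have h1 : aeval (σ ⟨αK, hαE⟩ : E) p = 0 := by
        rw [aeval_algHom_apply σ, show aeval (⟨αK, hαE⟩ : E) p = 0 from Subtype.ext (by
          rw [← IntermediateField.coe_val, ← aeval_algHom_apply]
          exact (hroots αK).2 ⟨st.α, st.self_mem, rfl⟩), map_zero]
      rw [← IntermediateField.coe_val, aeval_algHom_apply, h1, map_zero])
    have hact2 : ((σ • αT : T) : W) = π r := hinj ((hact σ αT).trans hre.symm)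
    have hrne : r ≠ st.α := fun h => hne (Subtype.ext (by rw [← hre, h]; rfl))
    rw [Subalgebra.coe_sub, hact2, ← map_sub]
    exact (st.diff r hr st.α st.self_mem hrne).map π
  · constructor
    · intro hx σ
      refine hext _ _ ((hact σ x).trans ?_)
      rw [show (⟨_, hTE x⟩ : E) = algebraMap L E ⟨_, hx⟩ from rfl, AlgEquiv.commutes]
      rfl
    · intro hfix
      obtain ⟨l, hl⟩ := (IsGalois.mem_range_algebraMap_iff_fixed (F := L) (⟨_, hTE x⟩ : E)).2 fun σ =>
        (hact' σ x).symm.trans (Subtype.ext (congrArg (fun y : T => algebraMap W K y) (hfix σ)))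
      rw [show algebraMap W K x = (l : K) from (congrArg Subtype.val hl).symm]
      exact l.2

end Groth.Agent.GaloisStage
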