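/-
Finitely generated subfields of the fraction field of a strict henselization meet it in finite unramified algebras.
-/
import Mathlib
import Groth.Agent.GaloisStage.Inter
import Groth.Agent.S2654
import Groth.Agent.S2651

set_option autoImplicit false
set_option linter.style.haveILetI false
universe u

open Polynomial IsLocalRing

namespace Groth.Agent.GaloisStage

variable {A S W : Type u} [CommRing A] [HenselianLocalRing A] [CommRing S] [IsLocalRing S] [Algebra A S]
  [IsLocalHom (algebraMap A S)] [Hensel.IsStrictHenselization A S] [CommRing W] [IsDomain W] [Algebra A W]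
  (π : S →ₐ[A] W) (hπ : Function.Surjective π) (K : Type u) [Field K] [Algebra W K] [IsFractionRing W K]
  [Algebra A K] [IsScalarTower A W K]

include hπ in
theorem isIntegral_image : Algebra.IsIntegral A W := ⟨fun w => by
  obtain ⟨s, rfl⟩ := hπ w
  obtain ⟨st, hst⟩ := exists_stage A ({s} : Finset S)
  refine IsIntegral.map π ?_
  exact IsIntegral.of_mem_of_fg st.ring (Module.Finite.iff_fg.1 (inferInstanceAs (Module.Finite A st.ring))) s (hst (by simp))⟩

/-- The trace on the ring of a subfield. -/
def traceRing (L : Subfield K) (hL : ∀ a, algebraMap A K a ∈ L) : Subalgebra A W :=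
  { L.toSubring.comap (algebraMap W K) with
    algebraMap_mem' := fun a => by
      show algebraMap W K (algebraMap A W a) ∈ L
      rw [← IsScalarTower.algebraMap_apply]; exact hL a }

omit [HenselianLocalRing A] in
theorem base_mem (t : Finset K) (a : A) :
    algebraMap A K a ∈ Subfield.closure (Set.range (algebraMap A K) ∪ (t : Set K)) :=
  Subfield.subset_closure (Or.inl ⟨a, rfl⟩)

include hπ in
/-- The trace of a finitely generated subfield is finite. -/
theorem finite_traceRing (hA : EGA4.IsExcellent A) (t : Finset K) :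
    Module.Finite A (traceRing (W := W) K (Subfield.closure (Set.range (algebraMap A K) ∪ (t : Set K))) (base_mem K t)) := by
  classical
  haveI := hA.1
  haveI := isIntegral_image π hπ
  let q := RingHom.ker (algebraMap A K)
  haveI : q.IsPrime := RingHom.ker_isPrime _
  have hN : CAlg.IsNagata A := S2654.result A ⟨hA.1, hA.2.2.1, hA.2.2.2⟩
  letI : Algebra (A ⧸ q) K := (Ideal.Quotient.lift q (algebraMap A K) fun a ha => ha).toAlgebra
  haveI : IsScalarTower A (A ⧸ q) K := IsScalarTower.of_algebraMap_eq fun a => rfl
  haveI : FaithfulSMul (A ⧸ q) K := (faithfulSMul_iff_algebraMap_injective _ _).2 (RingHom.kerLift_injective _)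
  let F := FractionRing (A ⧸ q)
  letI : Algebra F K := FractionRing.liftAlgebra _ _
  haveI : IsScalarTower (A ⧸ q) F K := FractionRing.isScalarTower_liftAlgebra _ _
  haveI : IsScalarTower A F K := IsScalarTower.of_algebraMap_eq fun a => by
    rw [IsScalarTower.algebraMap_apply A (A ⧸ q) K, IsScalarTower.algebraMap_apply (A ⧸ q) F K,
      ← IsScalarTower.algebraMap_apply A (A ⧸ q) F]
  let L : IntermediateField F K := IntermediateField.adjoin F (t : Set K)
  have hint : ∀ x : K, IsIntegral F x := fun x => by
    obtain ⟨u, v, -, rfl⟩ := IsFractionRing.div_surjective W x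
    have h : ∀ w : W, IsIntegral F (algebraMap W K w) := fun w =>
      (((Algebra.IsIntegral.isIntegral (R := A) w).map (IsScalarTower.toAlgHom A W K)).tower_top (A := A ⧸ q)).tower_top
    rw [div_eq_mul_inv]
    exact (h u).mul (h v).inv
  haveI : FiniteDimensional F L := IntermediateField.finiteDimensional_adjoin fun x _ => hint x
  haveI : IsScalarTower A (A ⧸ q) L := IsScalarTower.of_algebraMap_eq fun a => Subtype.ext rfl
  haveI : Module.Finite (A ⧸ q) (integralClosure (A ⧸ q) L) := hN.2 q L inferInstance
  haveI : Module.Finite A (integralClosure (A ⧸ q) L) := Module.Finite.trans (A ⧸ q) _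
  have hLle : Subfield.closure (Set.range (algebraMap A K) ∪ (t : Set K)) ≤ L.toSubfield := by
    refine Subfield.closure_le.2 (Set.union_subset ?_ (IntermediateField.subset_adjoin F _))
    rintro _ ⟨a, rfl⟩
    show algebraMap A K a ∈ L
    rw [IsScalarTower.algebraMap_apply A (A ⧸ q) K, IsScalarTower.algebraMap_apply (A ⧸ q) F K]
    exact L.algebraMap_mem _
  let D := traceRing (W := W) K (Subfield.closure (Set.range (algebraMap A K) ∪ (t : Set K))) (base_mem K t)
  have hmem : ∀ d : D, IsIntegral (A ⧸ q) (⟨algebraMap W K d, hLle d.2⟩ : L) := fun d => by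
    refine (isIntegral_algHom_iff (L.val.restrictScalars (A ⧸ q)) Subtype.val_injective).1 ?_
    exact (((Algebra.IsIntegral.isIntegral (R := A) (d : W)).map (IsScalarTower.toAlgHom A W K)).tower_top (A := A ⧸ q))
  refine Module.Finite.of_injective ({ toFun := fun d => ⟨_, hmem d⟩
                                       map_add' := fun x y => Subtype.ext (Subtype.ext (map_add _ _ _))
                                       map_smul' := fun a x => Subtype.ext (Subtype.ext ?_) } : D →ₗ[A] integralClosure (A ⧸ q) L)
    fun x y h => Subtype.ext (IsFractionRing.injective W K (congrArg (fun z : integralClosure (A ⧸ q) L => ((z : L) : K)) h))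
  show algebraMap W K (a • (x : W)) = a • algebraMap W K x
  exact map_smul (IsScalarTower.toAlgHom A W K) a _

include hπ in
/-- The trace is the fixed ring of a faithful group in a stage. -/
theorem exists_stage_group (L : Subfield K) (hL : ∀ a, algebraMap A K a ∈ L)
    (hfin : Module.Finite A (traceRing (W := W) K L hL)) :
    ∃ (st : Stage A S) (G : Type u) (_ : Group G) (_ : Fintype G) (_ : MulSemiringAction G ↥(st.ring.map π))
      (_ : SMulCommClass G A ↥(st.ring.map π)),
      traceRing (W := W) K L hL ≤ st.ring.map π ∧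
      (∀ σ : G, σ ≠ 1 → ∃ x : ↥(st.ring.map π), IsUnit ((σ • x - x : ↥(st.ring.map π)) : W)) ∧
        ∀ x : ↥(st.ring.map π), (x : W) ∈ traceRing (W := W) K L hL ↔ ∀ σ : G, σ • x = x := by
  classical
  obtain ⟨gens, hgens⟩ := (Module.Finite.iff_fg (N := Subalgebra.toSubmodule (traceRing (W := W) K L hL))).1 hfin
  choose lift hlift using hπ
  obtain ⟨st, hst⟩ := exists_stage A (gens.image lift)
  haveI : FaithfulSMul W K := (faithfulSMul_iff_algebraMap_injective _ _).2 (IsFractionRing.injective W K)
  obtain ⟨G, i1, i2, i3, i4, hG, hfix⟩ := exists_group π st K L hL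
  refine ⟨st, G, i1, i2, i3, i4, ?_, hG, fun x => hfix x⟩
  rw [← Subalgebra.toSubmodule.le_iff_le, ← hgens, Submodule.span_le]
  intro w hw
  exact ⟨lift w, hst (Finset.mem_coe.2 (Finset.mem_image_of_mem _ hw)), hlift w⟩

include hπ in
/-- The trace of a subfield: a local ring, unramified over the base. -/
theorem local_unramified (L : Subfield K) (hL : ∀ a, algebraMap A K a ∈ L)
    (hfin : Module.Finite A (traceRing (W := W) K L hL)) :
    ∃ _ : IsLocalRing (traceRing (W := W) K L hL), IsLocalHom (algebraMap (traceRing (W := W) K L hL) W) ∧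
      HenselianLocalRing (traceRing (W := W) K L hL) ∧ Algebra.FormallyUnramified A (traceRing (W := W) K L hL) := by
  classical
  set D := traceRing (W := W) K L hL with hD
  obtain ⟨st, G, _, _, _, _, hle, hG, hfix⟩ := exists_stage_group π hπ K L hL hfin
  haveI : IsLocalRing W := IsLocalRing.of_surjective' π.toRingHom hπ
  haveI hπl : IsLocalHom π.toRingHom := IsLocalHom.of_surjective π.toRingHom hπ
  let T := st.ring.map π
  let ρ : st.ring →ₐ[A] T := (π.comp st.ring.val).codRestrict T fun x => Subalgebra.mem_map.2 ⟨x, x.2, rfl⟩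
  have hρ : Function.Surjective ρ := fun ⟨w, hw⟩ => by
    obtain ⟨x, hx, rfl⟩ := Subalgebra.mem_map.1 hw
    exact ⟨⟨x, hx⟩, rfl⟩
  haveI : IsLocalRing T := IsLocalRing.of_surjective' ρ.toRingHom hρ
  have hTW : ∀ x : T, IsUnit (x : W) → IsUnit x := fun x hx => by
    obtain ⟨y, rfl⟩ := hρ x
    exact ((isUnit_of_map_unit (algebraMap st.ring S) y (isUnit_of_map_unit π.toRingHom _ hx)).map ρ)
  have hG' : ∀ σ : G, σ ≠ 1 → ∃ x : T, σ • x - x ∉ maximalIdeal T := fun σ hσ => by
    obtain ⟨x, hx⟩ := hG σ hσ
    exact ⟨x, fun h => (mem_maximalIdeal _).1 h (hTW _ hx)⟩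
  have hunit : ∀ d : D, IsUnit (d : W) → IsUnit d := fun d hd => by
    have hu := hTW ⟨d, hle d.2⟩ hd
    have hfixd := (hfix ⟨d, hle d.2⟩).1 d.2
    have hinv : ((↑hu.unit⁻¹ : T) : W) ∈ D := (hfix _).2 fun σ => by
      refine hu.mul_left_cancel ?_
      refine ((congrArg (· * σ • _) (hfixd σ)).symm.trans ?_)
      rw [← smul_mul', IsUnit.mul_val_inv, smul_one]
    exact isUnit_iff_exists_inv.2 ⟨⟨_, hinv⟩, Subtype.ext (congrArg Subtype.val hu.mul_val_inv :)⟩
  haveI : IsLocalHom (algebraMap D W) := ⟨hunit⟩
  haveI : IsLocalRing D := RingHom.domain_isLocalRing (algebraMap D W)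
  haveI := hfin
  haveI : Algebra.IsIntegral A D := Algebra.IsIntegral.of_finite A D
  refine ⟨inferInstance, inferInstance, Hensel.henselianLocalRing_finite A D, ?_⟩
  haveI : IsLocalHom (algebraMap A W) := by
    have h := RingHom.isLocalHom_comp π.toRingHom (algebraMap A S)
    rwa [show π.toRingHom.comp (algebraMap A S) = algebraMap A W from π.comp_algebraMap] at h
  haveI : IsLocalHom (algebraMap A D) := ⟨fun a ha => isUnit_of_map_unit (algebraMap A W) a (ha.map (algebraMap D W))⟩
  refine Algebra.FormallyUnramified.iff_map_maximalIdeal_eq.2 ⟨?_, ?_⟩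
  · haveI : IsLocalHom (algebraMap A S) := ‹_›
    haveI := (‹Hensel.IsStrictHenselization A S›).isSepClosure
    let em : ResidueField S ≃+* ResidueField W := RingEquiv.ofBijective (ResidueField.map π.toRingHom)
      ⟨RingHom.injective _, fun z => by
        obtain ⟨w, rfl⟩ := residue_surjective z
        obtain ⟨s, rfl⟩ := hπ w
        exact ⟨residue S s, ResidueField.map_residue _ _⟩⟩
    let r : W →+* ResidueField S := em.symm.toRingHom.comp (residue W)
    haveI : IsLocalHom r := ⟨fun w hw => by
      rw [← residue_ne_zero_iff_isUnit]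
      intro h
      refine hw.ne_zero ?_
      show em.symm (residue W w) = 0
      rw [h, map_zero]⟩
    have hr : ∀ a : A, r (algebraMap A W a) = residue S (algebraMap A S a) := fun a => by
      show em.symm _ = _
      rw [RingEquiv.symm_apply_eq, ← π.commutes]
      exact (ResidueField.map_residue _ _).symm
    let g : ResidueField D →ₐ[ResidueField A] ResidueField S :=
      { ResidueField.lift (r.comp (algebraMap D W)) with
        commutes' := fun z => by
          obtain ⟨a, rfl⟩ := residue_surjective z
          exact hr a }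
    exact Algebra.IsSeparable.of_algHom (ResidueField A) (ResidueField S) g
  · refine le_antisymm (Ideal.map_le_iff_le_comap.2 fun a ha => ?_) fun d hd => ?_
    · rw [Ideal.mem_comap, mem_maximalIdeal, mem_nonunits_iff]
      exact fun hu => (mem_maximalIdeal a).1 ha (isUnit_of_map_unit (algebraMap A D) a hu)
    · let C : Subalgebra A T := D.comap T.val
      have hmaxT : maximalIdeal T = (maximalIdeal A).map (algebraMap A T) := by
        rw [← IsLocalRing.map_maximalIdeal_of_surjective ρ.toRingHom hρ, st.maximalIdeal_eq, Ideal.map_map]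
        congr 1
        exact ρ.comp_algebraMap
      let x : C := ⟨⟨d, hle d.2⟩, d.2⟩
      have hx : (x : T) ∈ (maximalIdeal A).map (algebraMap A T) := by
        rw [← hmaxT, mem_maximalIdeal, mem_nonunits_iff]
        exact fun hu => (mem_maximalIdeal d).1 hd (hunit d (hu.map T.val))
      have h1 := mem_map_of_fixed hG' (maximalIdeal A) C hfix x hx
      let e : C →ₐ[A] D := (T.val.comp C.val).codRestrict D fun z => z.2
      have h2 := Ideal.mem_map_of_mem e.toRingHom h1
      rw [Ideal.map_map, AlgHom.toRingHom_eq_coe, AlgHom.comp_algebraMap] at h2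
      exact h2

include hπ in
theorem exists_frac (t : Finset K) :
    ∀ l ∈ Subfield.closure (Set.range (algebraMap A K) ∪ (t : Set K)),
      ∃ a ∈ traceRing (W := W) K (Subfield.closure (Set.range (algebraMap A K) ∪ (t : Set K))) (base_mem K t),
        ∃ c : A, algebraMap A K c ≠ 0 ∧ l * algebraMap A K c = algebraMap W K a := by
  intro l hl
  haveI := isIntegral_image π hπ
  obtain ⟨u, v, hv, huv⟩ := IsFractionRing.div_surjective W l
  obtain ⟨p, hp, hpv⟩ : ∃ p : A[X], p.Monic ∧ aeval v p = 0 := Algebra.IsIntegral.isIntegral (R := A) v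
  let q := p.map (algebraMap A W)
  have hq0 : q ≠ 0 := (hp.map _).ne_zero
  obtain ⟨g, hg, hndvd⟩ := exists_eq_pow_rootMultiplicity_mul_and_not_dvd q hq0 0
  rw [map_zero, sub_zero] at hg hndvd
  have hev : g.eval v = 0 := by
    have h1 : q.eval v = 0 := by rw [eval_map_algebraMap]; exact hpv
    rw [hg, eval_mul, eval_pow, eval_X] at h1
    exact (mul_eq_zero.1 h1).resolve_left (pow_ne_zero _ (nonZeroDivisors.ne_zero hv))
  generalize hn : rootMultiplicity 0 q = n at hg
  have hc : g.coeff 0 = algebraMap A W (p.coeff n) := by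
    rw [← coeff_map, show p.map (algebraMap A W) = q from rfl, hg, coeff_X_pow_mul', if_pos le_rfl, Nat.sub_self]
  have hc0 : g.coeff 0 ≠ 0 := fun h => hndvd (X_dvd_iff.2 h)
  obtain ⟨w, hw⟩ : v ∣ g.coeff 0 := by
    have h1 := X_sub_C_dvd_sub_C_eval (a := v) (p := g)
    rw [hev, map_zero, sub_zero] at h1
    obtain ⟨z, hz⟩ := h1
    refine ⟨-(z.coeff 0), ?_⟩
    rw [hz, mul_coeff_zero, coeff_sub, coeff_X_zero, coeff_C_zero]
    ring
  have hv0 : algebraMap W K v ≠ 0 := (map_ne_zero_iff _ (IsFractionRing.injective W K)).2 (nonZeroDivisors.ne_zero hv)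
  have h1 : l * algebraMap A K (p.coeff n) = algebraMap W K (u * w) := by
    rw [← huv, IsScalarTower.algebraMap_apply A W K, ← hc, hw, map_mul, map_mul]
    field_simp
  refine ⟨u * w, ?_, p.coeff n, ?_, h1⟩
  · show algebraMap W K (u * w) ∈ Subfield.closure _
    rw [← h1]
    exact mul_mem hl (base_mem K t _)
  · rw [IsScalarTower.algebraMap_apply A W K, ← hc]
    exact (map_ne_zero_iff _ (IsFractionRing.injective W K)).2 hc0

end Groth.Agent.GaloisStage
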