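/-
The Galois group of the residue field acting on a strict henselization of a henselian local ring.
-/
import Mathlib
import Groth.Agent.GaloisStage.Fixed
import Groth.Agent.GaloisStage.Exists
import Groth.Agent.S0539

set_option autoImplicit false
set_option linter.style.haveILetI false
universe u

open Polynomial IsLocalRing

namespace Groth.Agent.GaloisStage

variable (A S : Type u) [CommRing A] [HenselianLocalRing A] [CommRing S] [IsLocalRing S] [Algebra A S]
  [IsLocalHom (algebraMap A S)] [hS : Hensel.IsStrictHenselization A S]

/-- The residual Galois group. -/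
abbrev ResGal : Type u := ResidueField S ≃ₐ[ResidueField A] ResidueField S

include hS in
theorem exists_smulHom (τ : ResGal A S) : ∃! g : S →+* S, g.comp (algebraMap A S) = algebraMap A S ∧
    ∀ x : S, residue S (g x) = τ (residue S x) :=
  haveI := hS.henselian
  hS.universal S (algebraMap A S) τ.toAlgHom.toRingHom (RingHom.ext fun z => τ.commutes z)

/-- The lift of a residual automorphism. -/
noncomputable def smulHom (τ : ResGal A S) : S →+* S := (exists_smulHom A S τ).choose

include hS in
theorem smulHom_base (τ : ResGal A S) (a : A) : smulHom A S τ (algebraMap A S a) = algebraMap A S a :=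
  RingHom.congr_fun (exists_smulHom A S τ).choose_spec.1.1 a

include hS in
theorem residue_smulHom (τ : ResGal A S) (x : S) : residue S (smulHom A S τ x) = τ (residue S x) :=
  (exists_smulHom A S τ).choose_spec.1.2 x

include hS in
theorem smulHom_unique (τ : ResGal A S) (g : S →+* S) (h1 : g.comp (algebraMap A S) = algebraMap A S)
    (h2 : ∀ x, residue S (g x) = τ (residue S x)) : g = smulHom A S τ :=
  (exists_smulHom A S τ).choose_spec.2 g ⟨h1, h2⟩

noncomputable instance resGalAction : MulSemiringAction (ResGal A S) S where
  smul τ x := smulHom A S τ x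
  one_smul x := (RingHom.congr_fun (smulHom_unique A S 1 (RingHom.id S) (RingHom.id_comp _) fun _ => rfl) x).symm
  mul_smul τ σ x := (RingHom.congr_fun (smulHom_unique A S (τ * σ) ((smulHom A S τ).comp (smulHom A S σ))
    (RingHom.ext fun a => by rw [RingHom.comp_apply, RingHom.comp_apply, smulHom_base, smulHom_base])
    fun y => by rw [RingHom.comp_apply, residue_smulHom, residue_smulHom]; rfl) x).symm
  smul_zero τ := map_zero (smulHom A S τ)
  smul_add τ := map_add (smulHom A S τ)
  smul_one τ := map_one (smulHom A S τ)
  smul_mul τ := map_mul (smulHom A S τ)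

instance resGal_smulComm : SMulCommClass (ResGal A S) A S :=
  ⟨fun τ a x => by
    show smulHom A S τ (a • x) = a • smulHom A S τ x
    rw [Algebra.smul_def, Algebra.smul_def, map_mul, smulHom_base]⟩

include hS in
theorem residue_smul (τ : ResGal A S) (x : S) : residue S (τ • x) = τ (residue S x) := residue_smulHom A S τ x

include hS in
theorem smul_base (τ : ResGal A S) (a : A) : τ • algebraMap A S a = algebraMap A S a := smulHom_base A S τ a

/-- The lift as an algebra map. -/
noncomputable def smulAlg (τ : ResGal A S) : S →ₐ[A] S :=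
  { smulHom A S τ with commutes' := fun a => smulHom_base A S τ a }

variable {A S}

omit hS in
/-- Any root of the stage polynomial is one of its roots. -/
theorem Stage.root_mem_roots (st : Stage A S) {y : S} (hy : aeval y st.f = 0) : y ∈ st.roots := by
  classical
  have h1 : residue S ((st.f.map (algebraMap A S)).eval y) = 0 := by rw [eval_map_algebraMap, hy, map_zero]
  rw [st.prod, eval_prod, map_prod, Finset.prod_eq_zero_iff] at h1
  obtain ⟨r, hr, h2⟩ := h1
  simp only [eval_sub, eval_X, eval_C] at h2
  have hroot : aeval r st.f = 0 := by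
    rw [← eval_map_algebraMap, st.prod, eval_prod]
    exact Finset.prod_eq_zero hr (by simp)
  have hd : IsUnit ((st.f.map (algebraMap A S)).derivative.eval r) := by
    rw [st.prod, derivative_prod_finset, eval_finsetSum, Finset.sum_eq_single r]
    · simp only [derivative_X_sub_C, mul_one, eval_prod, eval_sub, eval_X, eval_C]
      exact IsUnit.prod_iff.2 fun s hs => st.diff r hr s (Finset.mem_of_mem_erase hs) (Finset.ne_of_mem_erase hs).symm
    · intro s _ hsr
      rw [eval_mul, eval_prod, Finset.prod_eq_zero (Finset.mem_erase.2 ⟨hsr.symm, hr⟩) (by simp), zero_mul]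
    · exact fun h => absurd hr h
  rwa [root_unique (p := st.f.map (algebraMap A S)) (x := r) (y := y) (by rw [eval_map_algebraMap]; exact hroot)
    (by rw [eval_map_algebraMap]; exact hy) hd (by rwa [← residue_eq_zero_iff])]

omit hS in
theorem Stage.roots_residue_inj (st : Stage A S) {r s : S} (hr : r ∈ st.roots) (hs : s ∈ st.roots)
    (h : residue S r = residue S s) : r = s := by
  by_contra hne
  have := (residue_ne_zero_iff_isUnit (r - s)).2 (st.diff r hr s hs hne)
  rw [map_sub, h, sub_self] at this
  exact this rfl

omit hS in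
theorem Stage.aeval_roots (st : Stage A S) {r : S} (hr : r ∈ st.roots) : aeval r st.f = 0 := by
  rw [← eval_map_algebraMap, st.prod, eval_prod]
  exact Finset.prod_eq_zero hr (by simp)

include hS in
theorem Stage.smul_mem (st : Stage A S) (τ : ResGal A S) {x : S} (hx : x ∈ st.ring) : τ • x ∈ st.ring := by
  have hle : st.ring ≤ st.ring.comap (smulAlg A S τ) := by
    refine Algebra.adjoin_le (Set.singleton_subset_iff.2 (st.mem _ (st.root_mem_roots ?_)))
    show aeval (smulAlg A S τ st.α) st.f = 0
    rw [aeval_algHom_apply, st.root, map_zero]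
  exact hle hx

include hS in
theorem Stage.free (st : Stage A S) : Module.Free A st.ring := by
  classical
  haveI := S0539.result A S
  have hAS : Function.Injective (algebraMap A S) := FaithfulSMul.algebraMap_injective A S
  have hcard : st.roots.card = st.f.natDegree := by
    have h1 := congrArg natDegree st.prod
    rw [st.monic.natDegree_map, natDegree_prod_of_monic _ _ fun x _ => monic_X_sub_C x] at h1
    simp only [natDegree_X_sub_C, Finset.sum_const, smul_eq_mul, mul_one] at h1
    exact h1.symm
  let αB : st.ring := ⟨st.α, st.root_mem⟩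
  let φ : (Fin st.f.natDegree → A) →ₗ[A] st.ring := Fintype.linearCombination A fun i : Fin st.f.natDegree => αB ^ (i : ℕ)
  have hφ : Function.Bijective φ := by
    refine ⟨(injective_iff_map_eq_zero φ).2 fun c hc => ?_, fun b => ?_⟩
    · let p : A[X] := ∑ i : Fin st.f.natDegree, C (c i) * X ^ (i : ℕ)
      have hpc : ∀ i : Fin st.f.natDegree, p.coeff i = c i := fun i => by
        rw [finsetSum_coeff, Finset.sum_eq_single i]
        · rw [coeff_C_mul, coeff_X_pow_self, mul_one]
        · intro j _ hj
          rw [coeff_C_mul, coeff_X_pow, if_neg (fun h => hj (Fin.ext h.symm)), mul_zero]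
        · exact fun h => absurd (Finset.mem_univ _) h
      suffices hp : p = 0 by funext i; rw [← hpc, hp, coeff_zero]; rfl
      by_contra hp
      have hpα : aeval st.α p = 0 := by
        have h1 : (φ c : S) = 0 := by rw [hc]; rfl
        rw [← h1, Fintype.linearCombination_apply, map_sum]
        simp [αB, Algebra.smul_def]
      have hroots : ∀ r ∈ st.roots, aeval r p = 0 := fun r hr => by
        haveI := hS.isSepClosure
        have hk : IsIntegral (ResidueField A) (residue S st.α) := Algebra.IsIntegral.isIntegral _
        have e1 : minpoly (ResidueField A) (residue S st.α) = st.f.map (residue A) :=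
          (minpoly.eq_of_irreducible_of_monic st.irr (by rw [← residue_aeval, st.root, map_zero]) (st.monic.map _)).symm
        have e2 : minpoly (ResidueField A) (residue S r) = st.f.map (residue A) :=
          (minpoly.eq_of_irreducible_of_monic st.irr (by rw [← residue_aeval, st.aeval_roots hr, map_zero]) (st.monic.map _)).symm
        obtain ⟨τ, hτ⟩ := minpoly.exists_algEquiv_of_root' (K := ResidueField A) (L := ResidueField S)
          (x := residue S r) (y := residue S st.α) (Algebra.IsAlgebraic.isAlgebraic _)
          (by rw [e1, ← residue_aeval, st.aeval_roots hr, map_zero])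
        have h1 : τ • st.α = r := by
          refine st.roots_residue_inj (st.root_mem_roots ?_) hr (by rw [residue_smul, hτ])
          show aeval (smulAlg A S τ st.α) st.f = 0
          rw [aeval_algHom_apply, st.root, map_zero]
        rw [← h1, show τ • st.α = smulAlg A S τ st.α from rfl, aeval_algHom_apply, hpα, map_zero]
      have hdvd : (∏ r ∈ st.roots, (X - C r)) ∣ p.map (algebraMap A S) := by
        refine Finset.prod_dvd_of_coprime (fun x hx z hz hne => isCoprime_X_sub_C_of_isUnit_sub (st.diff x hx z hz hne)) fun x hx => ?_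
        rw [dvd_iff_isRoot, IsRoot.def, eval_map_algebraMap]
        exact hroots x hx
      refine Polynomial.Monic.not_dvd_of_natDegree_lt (monic_prod_of_monic _ _ fun x _ => monic_X_sub_C x)
        ((Polynomial.map_ne_zero_iff hAS).2 hp) ?_ hdvd
      rw [natDegree_prod_of_monic _ _ fun x _ => monic_X_sub_C x]
      simp only [natDegree_X_sub_C, Finset.sum_const, smul_eq_mul, mul_one]
      rw [hcard, natDegree_map_eq_of_injective hAS, natDegree_lt_iff_degree_lt hp]
      exact degree_sum_fin_lt c
    · obtain ⟨b, hb⟩ := b
      have hb' := hb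
      rw [Stage.ring, Algebra.adjoin_singleton_eq_range_aeval] at hb'
      obtain ⟨p, rfl⟩ := hb'
      refine ⟨fun i => (p %ₘ st.f).coeff i, Subtype.ext ?_⟩
      rw [Fintype.linearCombination_apply]
      show _ = aeval st.α p
      conv_rhs => rw [← modByMonic_add_div p st.f]
      rw [map_add, map_mul, st.root, zero_mul, add_zero,
        aeval_eq_sum_range' (n := st.f.natDegree) (natDegree_modByMonic_lt _ st.monic (fun h => by
          have := st.irr.natDegree_pos
          rw [h, Polynomial.map_one, natDegree_one] at this
          omega)),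
        ← Fin.sum_univ_eq_sum_range (fun i => (p %ₘ st.f).coeff i • st.α ^ i)]
      simp [αB]
  exact Module.Free.of_equiv (LinearEquiv.ofBijective φ hφ)

/-- Restriction of the residual Galois group to a stage. -/
noncomputable def Stage.restr (st : Stage A S) : ResGal A S →* (st.ring ≃ₐ[A] st.ring) where
  toFun τ :=
    { toFun := fun x => ⟨τ • (x : S), st.smul_mem τ x.2⟩
      invFun := fun x => ⟨τ⁻¹ • (x : S), st.smul_mem τ⁻¹ x.2⟩
      left_inv := fun x => Subtype.ext (inv_smul_smul τ (x : S))
      right_inv := fun x => Subtype.ext (smul_inv_smul τ (x : S))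
      map_mul' := fun x y => Subtype.ext (smul_mul' τ (x : S) y)
      map_add' := fun x y => Subtype.ext (smul_add τ (x : S) y)
      commutes' := fun a => Subtype.ext (smul_base A S τ a) }
  map_one' := AlgEquiv.ext fun x => Subtype.ext (one_smul _ (x : S))
  map_mul' τ σ := AlgEquiv.ext fun x => Subtype.ext (mul_smul τ σ (x : S))

omit hS in
theorem Stage.algEquiv_ext (st : Stage A S) {φ ψ : st.ring ≃ₐ[A] st.ring}
    (h : (φ ⟨st.α, st.root_mem⟩ : S) = ψ ⟨st.α, st.root_mem⟩) : φ = ψ := by
  refine AlgEquiv.ext fun ⟨x, hx⟩ => ?_
  have hx' := hx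
  rw [Stage.ring, Algebra.adjoin_singleton_eq_range_aeval] at hx'
  obtain ⟨p, rfl⟩ := hx'
  have h2 : (⟨aeval st.α p, hx⟩ : st.ring) = aeval (⟨st.α, st.root_mem⟩ : st.ring) p := Subtype.ext (by
    show aeval st.α p = st.ring.val (aeval (⟨st.α, st.root_mem⟩ : st.ring) p)
    rw [← aeval_algHom_apply]; rfl)
  show φ ⟨aeval st.α p, hx⟩ = ψ ⟨aeval st.α p, hx⟩
  rw [h2, ← aeval_algHom_apply φ, ← aeval_algHom_apply ψ, Subtype.ext h]

omit hS in
theorem Stage.algEquiv_root (st : Stage A S) (φ : st.ring ≃ₐ[A] st.ring) :
    (φ ⟨st.α, st.root_mem⟩ : S) ∈ st.roots := by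
  refine st.root_mem_roots ?_
  rw [← Subalgebra.val_apply, aeval_algHom_apply, aeval_algHom_apply φ,
    show aeval (⟨st.α, st.root_mem⟩ : st.ring) st.f = 0 from Subtype.ext (by
      rw [← Subalgebra.val_apply, ← aeval_algHom_apply]; exact st.root), map_zero, map_zero]

omit hS in
theorem Stage.finite_aut (st : Stage A S) : Finite (st.ring ≃ₐ[A] st.ring) :=
  Finite.of_injective (fun φ => (⟨_, st.algEquiv_root φ⟩ : {x // x ∈ st.roots})) fun φ ψ h =>
    st.algEquiv_ext (congrArg Subtype.val h :)

omit hS in
/-- Automorphisms of a stage act faithfully on its residue field. -/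
theorem Stage.aut_faithful (st : Stage A S) (φ : st.ring ≃ₐ[A] st.ring) (hφ : φ ≠ 1) :
    ∃ x : st.ring, φ x - x ∉ maximalIdeal st.ring := by
  refine ⟨⟨st.α, st.root_mem⟩, fun h => hφ (st.algEquiv_ext ?_)⟩
  by_contra hne
  exact (mem_maximalIdeal _).1 h (isUnit_of_map_unit (algebraMap st.ring S) _
    (st.diff _ (st.algEquiv_root φ) _ st.self_mem hne))

end Groth.Agent.GaloisStage
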