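/-
Finite subalgebras of a strict henselization and the automorphisms fixing their residues.
-/
import Mathlib
import Groth.Agent.GaloisStage.Action

set_option autoImplicit false
set_option linter.style.haveILetI false
universe u

open Polynomial IsLocalRing

namespace Groth.Agent.GaloisStage

section Fixed

variable {A B G : Type u} [CommRing A] [IsLocalRing A] [IsNoetherianRing A] [CommRing B] [IsLocalRing B] [Algebra A B]
  [Module.Finite A B] [Group G] [Fintype G] [MulSemiringAction G B] [SMulCommClass G A B]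

/-- A subalgebra of fixed elements with all fixed residues contains all fixed elements. -/
theorem mem_of_fixed (hG : ∀ σ : G, σ ≠ 1 → ∃ x : B, σ • x - x ∉ maximalIdeal B)
    (hmax : maximalIdeal B = (maximalIdeal A).map (algebraMap A B)) (D : Subalgebra A B)
    (hfix : ∀ y ∈ D, ∀ σ : G, σ • y = y)
    (hres : ∀ c : B, (∀ σ : G, σ • c = c) → ∃ d ∈ D, c - d ∈ maximalIdeal B) (x : B) (hx : ∀ σ : G, σ • x = x) :
    x ∈ D := by
  let C : Subalgebra A B := FixedPoints.subalgebra A B G
  have hC : ∀ y, y ∈ C ↔ ∀ σ : G, σ • y = y := fun y => Iff.rfl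
  haveI : Module.Finite A C := inferInstanceAs (Module.Finite A (Subalgebra.toSubmodule C))
  let N : Submodule A C := (Subalgebra.toSubmodule D).comap C.val.toLinearMap
  have key : (⊤ : Submodule A C) ≤ N := by
    refine Submodule.le_of_le_smul_of_le_jacobson_bot (I := maximalIdeal A) Module.Finite.fg_top
      (maximalIdeal_le_jacobson ⊥) fun c _ => ?_
    obtain ⟨d, hd, hcd⟩ := hres c ((hC _).1 c.2)
    let dC : C := ⟨d, (hC _).2 (hfix d hd)⟩
    have h2 : c - dC ∈ maximalIdeal A • (⊤ : Submodule A C) := by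
      rw [Ideal.smul_top_eq_map]
      exact mem_map_of_fixed hG (maximalIdeal A) C hC _ (hmax ▸ hcd)
    exact Submodule.mem_sup.2 ⟨dC, hd, c - dC, h2, add_sub_cancel _ _⟩
  exact key (Submodule.mem_top : (⟨x, (hC _).2 hx⟩ : C) ∈ ⊤)

end Fixed

variable {A S : Type u} [CommRing A] [HenselianLocalRing A] [CommRing S] [IsLocalRing S] [Algebra A S]
  [IsLocalHom (algebraMap A S)] [hS : Hensel.IsStrictHenselization A S]

/-- The residues of a subalgebra. -/
def resAlg (D : Subalgebra A S) : Subalgebra (ResidueField A) (ResidueField S) :=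
  { D.toSubring.map (residue S) with
    algebraMap_mem' := fun z => by
      obtain ⟨a, rfl⟩ := residue_surjective z
      exact ⟨algebraMap A S a, D.algebraMap_mem a, rfl⟩ }

omit hS in
theorem mem_resAlg {D : Subalgebra A S} {y : ResidueField S} : y ∈ resAlg D ↔ ∃ d ∈ D, residue S d = y := Iff.rfl

/-- The residual automorphisms fixing the residues of a subalgebra. -/
def resFix (D : Subalgebra A S) : Subgroup (ResGal A S) where
  carrier := {τ | ∀ d ∈ D, τ (residue S d) = residue S d}
  one_mem' := fun _ _ => rfl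
  mul_mem' := fun {σ τ} hσ hτ d hd => by rw [AlgEquiv.mul_apply, hτ d hd, hσ d hd]
  inv_mem' := fun {σ} hσ d hd => by
    conv_lhs => rw [← hσ d hd]
    exact σ.symm_apply_apply _

omit hS in
theorem mem_resFix {D : Subalgebra A S} {τ : ResGal A S} :
    τ ∈ resFix D ↔ ∀ d ∈ D, τ (residue S d) = residue S d := Iff.rfl

include hS in
/-- Residues fixed by the automorphisms fixing the residues of a subalgebra come from it. -/
theorem exists_residue_of_fixed (D : Subalgebra A S) {y : ResidueField S} (h : ∀ τ ∈ resFix D, τ y = y) :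
    ∃ d ∈ D, residue S d = y := by
  haveI := hS.isSepClosure
  haveI : IsGalois (ResidueField A) (ResidueField S) := inferInstance
  let F : IntermediateField (ResidueField A) (ResidueField S) :=
    (resAlg D).toIntermediateField' (resAlg D).isField_of_algebraic
  have h1 : y ∈ IntermediateField.fixedField F.fixingSubgroup := fun σ => h σ.1 fun d hd => by
    exact (IntermediateField.mem_fixingSubgroup_iff F σ.1).1 σ.2 _ (mem_resAlg.2 ⟨d, hd, rfl⟩)
  rw [InfiniteGalois.fixedField_fixingSubgroup] at h1
  exact mem_resAlg.1 h1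

include hS in
theorem isIntegral_S : Algebra.IsIntegral A S := ⟨fun s => by
  obtain ⟨st, hst⟩ := exists_stage A ({s} : Finset S)
  exact IsIntegral.of_mem_of_fg st.ring (Module.Finite.iff_fg.1 (inferInstanceAs (Module.Finite A st.ring))) s
    (hst (by simp))⟩

include hS in
theorem isLocalHom_subalgebra (D : Subalgebra A S) : IsLocalHom (algebraMap D S) := by
  haveI := isIntegral_S (A := A) (S := S)
  haveI : Algebra.IsIntegral D S := Algebra.IsIntegral.tower_top (R := A)
  haveI : FaithfulSMul D S := (faithfulSMul_iff_algebraMap_injective _ _).2 Subtype.val_injective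
  exact Algebra.IsIntegral.isLocalHom D S

include hS in
theorem isLocalRing_subalgebra (D : Subalgebra A S) : IsLocalRing D := by
  haveI := isLocalHom_subalgebra D
  exact RingHom.domain_isLocalRing (algebraMap D S)

include hS in
/-- Every finite subalgebra and finite set lie in one stage. -/
theorem exists_stage_ge (D : Subalgebra A S) [Module.Finite A D] (F : Finset S) :
    ∃ st : Stage A S, D ≤ st.ring ∧ ↑F ⊆ (st.ring : Set S) := by
  classical
  obtain ⟨gens, hgens⟩ := (Module.Finite.iff_fg (N := Subalgebra.toSubmodule D)).1 inferInstance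
  obtain ⟨st, hst⟩ := exists_stage A (gens ∪ F)
  rw [Finset.coe_union, Set.union_subset_iff] at hst
  refine ⟨st, ?_, hst.2⟩
  rw [← Subalgebra.toSubmodule.le_iff_le, ← hgens, Submodule.span_le]
  exact hst.1

/-- The group induced on a stage. -/
noncomputable def stageGroup (D : Subalgebra A S) (st : Stage A S) : Subgroup (st.ring ≃ₐ[A] st.ring) :=
  (resFix D).map st.restr

include hS in
theorem stageGroup_fixed_iff {D : Subalgebra A S} {st : Stage A S} (x : st.ring) :
    (∀ σ : stageGroup D st, σ • x = x) ↔ ∀ τ ∈ resFix D, τ • (x : S) = x := by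
  refine ⟨fun h τ hτ => congrArg Subtype.val (h ⟨st.restr τ, Subgroup.mem_map_of_mem _ hτ⟩), fun h σ => ?_⟩
  obtain ⟨τ, hτ, hτσ⟩ := Subgroup.mem_map.1 σ.2
  refine Subtype.ext ?_
  show ((σ.1 x : st.ring) : S) = x
  rw [← hτσ]
  exact h τ hτ

omit hS in
theorem stageGroup_faithful {D : Subalgebra A S} {st : Stage A S}
    [Hensel.IsStrictHenselization A S] (σ : stageGroup D st) (hσ : σ ≠ 1) :
    ∃ x : st.ring, σ • x - x ∉ maximalIdeal st.ring :=
  st.aut_faithful σ.1 fun h => hσ (Subtype.ext h)

include hS in
/-- Fixed elements of a stage: they are the subalgebra. -/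
theorem fixed_iff [IsNoetherianRing A] (D : Subalgebra A S) [Module.Finite A D]
    (hfix : ∀ τ ∈ resFix D, ∀ d ∈ D, τ • d = d) (st : Stage A S) (hle : D ≤ st.ring) (x : st.ring) :
    x ∈ D.comap st.ring.val ↔ ∀ σ : stageGroup D st, σ • x = x := by
  refine ⟨fun hx => (stageGroup_fixed_iff x).2 fun τ hτ => hfix τ hτ _ hx, fun hx => ?_⟩
  haveI := st.finite_aut
  letI : Fintype (stageGroup D st) := Fintype.ofFinite _
  refine mem_of_fixed (G := stageGroup D st) (B := st.ring) stageGroup_faithful st.maximalIdeal_eq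
    (D.comap st.ring.val) (fun y hy => (stageGroup_fixed_iff y).2 fun τ hτ => hfix τ hτ _ hy) (fun c hc => ?_) x hx
  obtain ⟨d, hd, hde⟩ := exists_residue_of_fixed D (y := residue S (c : S)) fun τ hτ => by
    rw [← residue_smul, (stageGroup_fixed_iff c).1 hc τ hτ]
  refine ⟨⟨d, hle hd⟩, hd, ?_⟩
  rw [mem_maximalIdeal, mem_nonunits_iff]
  intro hu
  refine (residue_ne_zero_iff_isUnit _).2 (hu.map (algebraMap st.ring S)) ?_
  show residue S ((c : S) - d) = 0
  rw [map_sub, hde, sub_self]

include hS in
theorem eq_fixed_of_fix [IsNoetherianRing A] (D : Subalgebra A S) [Module.Finite A D]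
    (hfix : ∀ τ ∈ resFix D, ∀ d ∈ D, τ • d = d) (st : Stage A S) (hle : D ≤ st.ring) (x : st.ring)
    (hx : ∀ τ ∈ resFix D, τ • (x : S) = x) : (x : S) ∈ D :=
  (fixed_iff D hfix st hle x).2 ((stageGroup_fixed_iff x).2 hx)

include hS in
theorem mem_map_of_mem_maximalIdeal [IsNoetherianRing A] (D : Subalgebra A S) [Module.Finite A D] [IsLocalRing D]
    (hfix : ∀ τ ∈ resFix D, ∀ d ∈ D, τ • d = d) (st : Stage A S) (hle : D ≤ st.ring) (d : D)
    (hd : d ∈ maximalIdeal D) : d ∈ (maximalIdeal A).map (algebraMap A D) := by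
  haveI := isLocalHom_subalgebra D
  haveI := st.finite_aut
  letI : Fintype (stageGroup D st) := Fintype.ofFinite _
  let x : st.ring := ⟨d, hle d.2⟩
  have h1 : x ∈ (maximalIdeal A).map (algebraMap A st.ring) := by
    rw [← st.maximalIdeal_eq, mem_maximalIdeal, mem_nonunits_iff]
    intro hu
    exact (mem_maximalIdeal d).1 hd (isUnit_of_map_unit (algebraMap D S) d (hu.map (algebraMap st.ring S) :))
  have h2 := mem_map_of_fixed (G := stageGroup D st) (T := st.ring) stageGroup_faithful (maximalIdeal A)
    (D.comap st.ring.val) (fixed_iff D hfix st hle) ⟨x, d.2⟩ h1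
  let i : D.comap st.ring.val →ₐ[A] D := (st.ring.val.comp (D.comap st.ring.val).val).codRestrict D fun c => c.2
  have h3 := Ideal.mem_map_of_mem i.toRingHom h2
  rw [Ideal.map_map, AlgHom.toRingHom_eq_coe, AlgHom.comp_algebraMap] at h3
  exact h3

include hS in
/-- A finite subalgebra fixed by the automorphisms fixing its residues is étale. -/
theorem etale_of_fix [IsNoetherianRing A] (D : Subalgebra A S) [Module.Finite A D]
    (hfix : ∀ τ ∈ resFix D, ∀ d ∈ D, τ • d = d) : Algebra.Etale A D := by
  classical
  obtain ⟨st, hle, -⟩ := exists_stage_ge D ∅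
  haveI := isLocalRing_subalgebra D
  haveI := isLocalHom_subalgebra D
  haveI : IsLocalHom (algebraMap A D) := ⟨fun a ha => isUnit_of_map_unit (algebraMap A S) a (ha.map (algebraMap D S))⟩
  haveI := st.finite_aut
  let G := stageGroup D st
  letI : Fintype G := Fintype.ofFinite G
  let C : Subalgebra A st.ring := D.comap st.ring.val
  have hC : ∀ y, y ∈ C ↔ ∀ σ : G, σ • y = y := fixed_iff D hfix st hle
  haveI := st.free
  obtain ⟨r, hr⟩ := exists_retraction (stageGroup_faithful (D := D) (st := st)) C hC
  haveI : Module.Projective A C :=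
    Module.Projective.of_split C.val.toLinearMap (r.restrictScalars A) (LinearMap.ext fun c => hr c)
  let e : C ≃ₐ[A] D := AlgEquiv.ofBijective ((st.ring.val.comp C.val).codRestrict D fun c => c.2)
    ⟨fun a b h => Subtype.ext (Subtype.ext (congrArg (fun z : D => (z : S)) h)),
      fun d => ⟨⟨⟨d, hle d.2⟩, d.2⟩, rfl⟩⟩
  haveI : Module.Flat A D := Module.Flat.of_linearEquiv e.symm.toLinearEquiv
  haveI : Algebra.FormallyUnramified A D := by
    refine Algebra.FormallyUnramified.iff_map_maximalIdeal_eq.2 ⟨?_, le_antisymm ?_ fun d hd => ?_⟩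
    · haveI := hS.isSepClosure
      let g : ResidueField D →ₐ[ResidueField A] ResidueField S :=
        { ResidueField.lift ((residue S).comp (algebraMap D S)) with
          commutes' := fun z => by
            obtain ⟨a, rfl⟩ := residue_surjective z
            rfl }
      exact Algebra.IsSeparable.of_algHom (ResidueField A) (ResidueField S) g
    · refine Ideal.map_le_iff_le_comap.2 fun a ha => ?_
      rw [Ideal.mem_comap, mem_maximalIdeal, mem_nonunits_iff]
      exact fun hu => (mem_maximalIdeal a).1 ha (isUnit_of_map_unit (algebraMap A D) a hu)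
    · exact mem_map_of_mem_maximalIdeal D hfix st hle d hd
  haveI : Algebra.FinitePresentation A D :=
    Algebra.FinitePresentation.of_finiteType.1 (inferInstanceAs (Algebra.FiniteType A D))
  exact Algebra.Etale.of_formallyUnramified_of_flat

include hS in
/-- An unramified finite subalgebra is fixed by the automorphisms fixing its residues. -/
theorem fix_of_unramified (D : Subalgebra A S) [Module.Finite A D] [Algebra.FormallyUnramified A D]
    {τ : ResGal A S} (hτ : τ ∈ resFix D) {d : S} (hd : d ∈ D) : τ • d = d := by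
  classical
  haveI := isLocalRing_subalgebra D
  haveI := isLocalHom_subalgebra D
  haveI : IsLocalHom (algebraMap A D) := ⟨fun a ha => isUnit_of_map_unit (algebraMap A S) a (ha.map (algebraMap D S))⟩
  have hm := (Algebra.FormallyUnramified.iff_map_maximalIdeal_eq (R := A) (S := D)).1 inferInstance |>.2
  let U : Subalgebra A D := (AlgHom.equalizer (smulAlg A S τ) (AlgHom.id A S)).comap D.val
  have key : (⊤ : Submodule A D) ≤ Subalgebra.toSubmodule U := by
    refine Submodule.le_of_le_smul_of_le_jacobson_bot (I := maximalIdeal A) Module.Finite.fg_top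
      (maximalIdeal_le_jacobson ⊥) fun x _ => ?_
    obtain ⟨α, g, hg, hgα, hgd, hα, -⟩ := exists_simpleRoot (A := A) (residue S (x : S))
    obtain ⟨b, hb, hbx, hbd⟩ := lift_root hg x
      (by rw [residue_aeval, ← hα, ← residue_aeval, hgα, map_zero])
      (by rw [← residue_ne_zero_iff_isUnit, residue_aeval, ← hα, ← residue_aeval, residue_ne_zero_iff_isUnit]; exact hgd)
    have hbU : b ∈ U := by
      show smulAlg A S τ (b : S) = (b : S)
      refine root_unique (p := g.map (algebraMap A S)) (x := (b : S)) (y := smulAlg A S τ (b : S))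
        (by rw [eval_map_algebraMap]; exact hb) ?_ (by rw [derivative_map, eval_map_algebraMap]; exact hbd) ?_
      · rw [eval_map_algebraMap, aeval_algHom_apply, hb, map_zero]
      · rw [← residue_eq_zero_iff, map_sub, sub_eq_zero]
        exact (residue_smul A S τ _).trans (hτ _ b.2)
    have h2 : x - b ∈ maximalIdeal A • (⊤ : Submodule A D) := by
      rw [Ideal.smul_top_eq_map]
      show x - b ∈ Ideal.map (algebraMap A D) (maximalIdeal A)
      rw [hm, mem_maximalIdeal, mem_nonunits_iff]
      intro hu
      refine (residue_ne_zero_iff_isUnit _).2 (hu.map (algebraMap D S)) ?_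
      show residue S ((x : S) - b) = 0
      rw [map_sub, hbx, sub_self]
    exact Submodule.mem_sup.2 ⟨b, hbU, x - b, h2, add_sub_cancel _ _⟩
  exact key (Submodule.mem_top : (⟨d, hd⟩ : D) ∈ ⊤)

include hS in
/-- A stable prime is extended from the subalgebra. -/
theorem extended_of_stable [IsNoetherianRing A] (D : Subalgebra A S) [Module.Finite A D]
    (hfix : ∀ τ ∈ resFix D, ∀ d ∈ D, τ • d = d) (Q : Ideal S)
    (hQ : ∀ τ ∈ resFix D, ∀ x ∈ Q, τ • x ∈ Q) :
    Q = Ideal.map (algebraMap D S) (Q.comap (algebraMap D S)) := by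
  classical
  refine le_antisymm (fun x hx => ?_) Ideal.map_comap_le
  obtain ⟨st, hle, hxs⟩ := exists_stage_ge D {x}
  haveI := st.finite_aut
  let G := stageGroup D st
  letI : Fintype G := Fintype.ofFinite G
  obtain ⟨t, ht⟩ := exists_det_unit (stageGroup_faithful (D := D) (st := st))
  let xB : st.ring := ⟨x, hxs (by simp)⟩
  obtain ⟨c, ⟨hc, hxc⟩, -⟩ := exists_fixed_coeff t ht xB
  let N : Matrix G G st.ring := Matrix.of fun σ i => σ • t i
  have hN : N.mulVec c = fun σ => σ • xB := funext fun σ => by
    rw [hxc, Finset.smul_sum]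
    exact Finset.sum_congr rfl fun i _ => by rw [smul_mul', hc i σ, mul_comm]; rfl
  have hcQ : ∀ i, ((c i : st.ring) : S) ∈ Q := fun i => by
    have h1 : N.adjugate.mulVec (N.mulVec c) = N.det • c := by
      rw [Matrix.mulVec_mulVec, Matrix.adjugate_mul, Matrix.smul_mulVec, Matrix.one_mulVec]
    have h2 : N.det * c i ∈ Q.comap (algebraMap st.ring S) := by
      have h3 := congrFun h1 i
      rw [hN, Pi.smul_apply, smul_eq_mul] at h3
      rw [← h3]
      refine Ideal.sum_mem _ fun σ _ => Ideal.mul_mem_left _ _ ?_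
      obtain ⟨τ, hτ, hτσ⟩ := Subgroup.mem_map.1 σ.2
      show ((σ.1 xB : st.ring) : S) ∈ Q
      rw [← hτσ]
      exact hQ τ hτ x hx
    exact (Ideal.unit_mul_mem_iff_mem _ ht).1 h2
  have hcD : ∀ i, ((c i : st.ring) : S) ∈ D := fun i =>
    eq_fixed_of_fix D hfix st hle _ ((stageGroup_fixed_iff (c i)).1 (hc i))
  rw [show x = ((∑ i, c i * t i : st.ring) : S) from congrArg Subtype.val hxc, AddSubmonoidClass.coe_finsetSum]
  exact Ideal.sum_mem _ fun i _ => Ideal.mul_mem_right _ _ (Ideal.mem_map_of_mem (algebraMap D S) (x := ⟨_, hcD i⟩) (hcQ i))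

end Groth.Agent.GaloisStage
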