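/-
Lifting integral elements from a branch to the total ring of fractions; splitting over strictly henselian rings.
-/
import Mathlib

set_option autoImplicit false
set_option linter.style.haveILetI false
universe u

open Polynomial IsLocalRing

namespace Groth.Agent.GaloisStage

theorem mem_nonZeroDivisors_of_notMem_minimal {R : Type u} [CommRing R] [IsReduced R] {x : R}
    (h : ∀ q ∈ minimalPrimes R, x ∉ q) : x ∈ nonZeroDivisors R := by
  refine mem_nonZeroDivisors_iff_right.2 fun y hy => ?_
  have h1 : y ∈ sInf (minimalPrimes R) := Submodule.mem_sInf.2 fun q hq => by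
    haveI := hq.isPrime
    exact (Ideal.IsPrime.mem_or_mem ‹_› (show y * x ∈ q by rw [hy]; exact zero_mem q)).resolve_right (h q hq)
  rw [minimalPrimes, Ideal.sInf_minimalPrimes] at h1
  obtain ⟨n, hn⟩ := h1
  exact IsNilpotent.eq_zero ⟨n, Ideal.mem_bot.1 hn⟩

theorem minimal_of_disjoint' {R : Type u} [CommRing R] [IsReduced R] (hfin : (minimalPrimes R).Finite) {q : Ideal R}
    [q.IsPrime] (h : Disjoint (q : Set R) (nonZeroDivisors R)) : q ∈ minimalPrimes R := by
  classical
  let s := hfin.toFinset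
  have hsub : (q : Set R) ⊆ ⋃ i ∈ (↑s : Set (Ideal R)), ((id i : Ideal R) : Set R) := fun x hx => by
    by_contra hne
    refine Set.disjoint_left.1 h hx (mem_nonZeroDivisors_of_notMem_minimal fun p hp hxp => hne ?_)
    exact Set.mem_biUnion (Set.Finite.mem_toFinset _ |>.2 hp) hxp
  obtain ⟨p, hp, hqp⟩ := (Ideal.subset_union_prime ⊥ ⊥ (fun i hi _ _ =>
    ((Set.Finite.mem_toFinset _).1 hi).isPrime)).1 hsub
  have hp' := (Set.Finite.mem_toFinset _).1 hp
  have hle : p ≤ q := hp'.2 ⟨inferInstance, bot_le⟩ hqp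
  rwa [le_antisymm hqp hle]

theorem minimal_of_disjoint {R : Type u} [CommRing R] [IsReduced R] [IsNoetherianRing R] {q : Ideal R} [q.IsPrime]
    (h : Disjoint (q : Set R) (nonZeroDivisors R)) : q ∈ minimalPrimes R :=
  minimal_of_disjoint' (minimalPrimes.finite_of_isNoetherianRing R) h

variable {A D K : Type u} [CommRing A] [CommRing D] [Algebra A D] [IsReduced D] [Field K]

omit [Algebra A D] in
/-- A prime of the total ring of fractions is determined by its contraction. -/
theorem eq_ker_of_comap_eq (φ : FractionRing D →+* K) (P : Ideal (FractionRing D)) [P.IsPrime]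
    (h : P.comap (algebraMap D (FractionRing D)) = (RingHom.ker φ).comap (algebraMap D (FractionRing D))) :
    P = RingHom.ker φ := by
  have h' : P.under D = (RingHom.ker φ).under D := h
  rw [← IsLocalization.map_under (nonZeroDivisors D) (FractionRing D) P, h',
    IsLocalization.map_under (nonZeroDivisors D) (FractionRing D)]

/-- An integral element of a branch lifts to an integral element of the total ring of fractions. -/
theorem exists_integral_lift' [Algebra A K] (hfin : (minimalPrimes D).Finite) (φ : FractionRing D →+* K)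
    (hφ : ∀ r : A, φ (algebraMap A (FractionRing D) r) = algebraMap A K r) (a b : D)
    (hb : φ (algebraMap D _ b) ≠ 0) (hint : IsIntegral A (φ (algebraMap D _ a) / φ (algebraMap D _ b))) :
    ∃ x : integralClosure D (FractionRing D), φ x = φ (algebraMap D _ a) / φ (algebraMap D _ b) := by
  classical
  let F := FractionRing D
  haveI : (RingHom.ker φ).IsPrime := RingHom.ker_isPrime φ
  let p := (RingHom.ker φ).comap (algebraMap D F)
  have hdisj : ∀ (P : Ideal F), P.IsPrime → Disjoint ((P.comap (algebraMap D F) : Ideal D) : Set D) (nonZeroDivisors D) :=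
    fun P hP => Set.disjoint_left.2 fun x hx hx' =>
      hP.ne_top (Ideal.eq_top_of_isUnit_mem _ hx (IsLocalization.map_units F (⟨x, hx'⟩ : nonZeroDivisors D)))
  have hp : p ∈ minimalPrimes D := minimal_of_disjoint' hfin (hdisj _ inferInstance)
  haveI := hp.isPrime
  let s := hfin.toFinset.erase p
  have hs : ∀ q, q ∈ s ↔ q ≠ p ∧ q ∈ minimalPrimes D := fun q => by
    rw [Finset.mem_erase, Set.Finite.mem_toFinset]
  obtain ⟨c, hcs, hcp⟩ : ∃ c, c ∈ s.inf id ∧ c ∉ p := by
    by_contra! hc
    obtain ⟨q, hq, hqp⟩ := (hp.isPrime.inf_le').1 hc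
    exact ((hs q).1 hq).1 (le_antisymm hqp (hp.2 ⟨((hs q).1 hq).2.isPrime, bot_le⟩ hqp))
  obtain ⟨c', hc'p, hc's⟩ : ∃ c', c' ∈ p ∧ ∀ q ∈ s, c' ∉ q := by
    by_contra! hc
    obtain ⟨q, hq, hpq⟩ := (Ideal.subset_union_prime (f := id) (s := s) ⊥ ⊥ fun i hi _ _ =>
      ((hs i).1 hi).2.isPrime).1 (fun x hx => by
        obtain ⟨q, hq, hxq⟩ := hc x hx
        exact Set.mem_biUnion hq hxq)
    exact ((hs q).1 hq).1 (le_antisymm (((hs q).1 hq).2.2 ⟨hp.isPrime, bot_le⟩ hpq) hpq)
  have hcq : ∀ q ∈ s, c ∈ q := fun q hq => Finset.inf_le (f := id) hq hcs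
  have hbp : b * c ∉ p := fun h => (hp.isPrime.mem_or_mem h).elim hb hcp
  have hden : b * c + c' ∈ nonZeroDivisors D := mem_nonZeroDivisors_of_notMem_minimal fun q hq h => by
    by_cases hqp : q = p
    · subst hqp
      exact hbp ((Ideal.add_mem_iff_left _ hc'p).1 h)
    · exact hc's q ((hs q).2 ⟨hqp, hq⟩) ((Ideal.add_mem_iff_right _ (q.mul_mem_left b (hcq q ((hs q).2 ⟨hqp, hq⟩)))).1 h)
  let x0 : F := IsLocalization.mk' F (a * c) (⟨b * c + c', hden⟩ : nonZeroDivisors D)
  have hspec : x0 * algebraMap D F (b * c + c') = algebraMap D F (a * c) := IsLocalization.mk'_spec _ _ _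
  have hc0 : φ (algebraMap D F c) ≠ 0 := hcp
  have hc'0 : φ (algebraMap D F c') = 0 := hc'p
  have hval : φ x0 = φ (algebraMap D _ a) / φ (algebraMap D _ b) := by
    have h1 := congrArg φ hspec
    rw [map_mul, map_add, map_add, hc'0, add_zero, map_mul, map_mul, map_mul, map_mul, ← mul_assoc] at h1
    exact (eq_div_iff hb).2 (mul_right_cancel₀ hc0 h1)
  obtain ⟨f, hf, hfe⟩ := hint
  have hev : φ (aeval x0 f) = 0 := by
    rw [← hfe, ← hval, aeval_def, hom_eval₂, show φ.comp (algebraMap A F) = algebraMap A K from RingHom.ext hφ]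
  have hx0 : aeval x0 (X * f) = 0 := by
    refine IsNilpotent.eq_zero (nilpotent_iff_mem_prime.2 fun P hP => ?_)
    rw [map_mul, aeval_X]
    by_cases hPp : P.comap (algebraMap D F) = p
    · rw [eq_ker_of_comap_eq φ P hPp]
      exact Ideal.mul_mem_left _ _ hev
    · have hq := minimal_of_disjoint' hfin (hdisj P hP)
      have hx : x0 ∈ P := by
        have h1 : x0 * algebraMap D F (b * c + c') ∈ P := by
          rw [hspec, map_mul]
          exact P.mul_mem_left _ (hcq _ ((hs _).2 ⟨hPp, hq⟩))
        refine (hP.mem_or_mem h1).resolve_right fun h2 => ?_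
        exact Set.disjoint_left.1 (hdisj P hP) h2 hden
      exact Ideal.mul_mem_right _ _ hx
  exact ⟨⟨x0, (show IsIntegral A x0 from ⟨X * f, monic_X.mul hf, hx0⟩).tower_top⟩, hval⟩

theorem exists_integral_lift [IsNoetherianRing D] [Algebra A K] (φ : FractionRing D →+* K)
    (hφ : ∀ r : A, φ (algebraMap A (FractionRing D) r) = algebraMap A K r) (a b : D)
    (hb : φ (algebraMap D _ b) ≠ 0) (hint : IsIntegral A (φ (algebraMap D _ a) / φ (algebraMap D _ b))) :
    ∃ x : integralClosure D (FractionRing D), φ x = φ (algebraMap D _ a) / φ (algebraMap D _ b) :=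
  exists_integral_lift' (minimalPrimes.finite_of_isNoetherianRing D) φ hφ a b hb hint

/-- Separable residual polynomials split over a strictly henselian ring. -/
theorem exists_prod_roots {S : Type u} [CommRing S] [HenselianLocalRing S] [IsSepClosed (ResidueField S)] {g : S[X]}
    (hg : g.Monic) (hsep : (g.map (residue S)).Separable) :
    ∃ R : Finset S, g = ∏ r ∈ R, (X - C r) ∧ (∀ r ∈ R, ∀ s ∈ R, r ≠ s → IsUnit (r - s)) ∧
      R.card = g.natDegree := by
  classical
  let p0 := g.map (residue S)
  have hp0 : p0 ≠ 0 := (hg.map _).ne_zero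
  let R0 := p0.roots.toFinset
  have hlift : ∀ y : R0, ∃ r : S, g.eval r = 0 ∧ residue S r = y := fun y => by
    obtain ⟨r0, hr0⟩ := residue_surjective (y : ResidueField S)
    have hy : p0.eval (y : ResidueField S) = 0 := (mem_roots hp0).1 (Multiset.mem_toFinset.1 y.2)
    have hy' : p0.derivative.eval (y : ResidueField S) ≠ 0 := hsep.eval₂_derivative_ne_zero (RingHom.id _) hy
    obtain ⟨r, hr, hrr⟩ := HenselianLocalRing.is_henselian g hg r0
      (by rw [← residue_eq_zero_iff, ← eval₂_id, hom_eval₂, RingHom.comp_id, ← eval_map, hr0]; exact hy)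
      (by rw [← residue_ne_zero_iff_isUnit, ← eval₂_id, hom_eval₂, RingHom.comp_id, ← eval_map, ← derivative_map, hr0]; exact hy')
    exact ⟨r, hr, by rw [← hr0, ← sub_eq_zero, ← map_sub, residue_eq_zero_iff]; exact hrr⟩
  choose r hr0 hr1 using hlift
  have hrinj : Function.Injective r := fun a b h => Subtype.ext (by rw [← hr1 a, ← hr1 b, h])
  let R := Finset.univ.image r
  have hdiff : ∀ x ∈ R, ∀ z ∈ R, x ≠ z → IsUnit (x - z) := by
    intro x hx z hz hne
    obtain ⟨a, -, rfl⟩ := Finset.mem_image.1 hx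
    obtain ⟨b, -, rfl⟩ := Finset.mem_image.1 hz
    rw [← residue_ne_zero_iff_isUnit, map_sub, hr1, hr1, sub_ne_zero]
    exact fun h => hne (congrArg r (Subtype.ext h))
  have hcard : R.card = g.natDegree := by
    rw [Finset.card_image_of_injective _ hrinj, Finset.card_univ, Fintype.card_coe,
      Multiset.toFinset_card_of_nodup (nodup_roots hsep), ← (IsSepClosed.splits_of_separable p0 hsep).natDegree_eq_card_roots,
      hg.natDegree_map]
  refine ⟨R, ?_, hdiff, hcard⟩
  have hdvd : (∏ x ∈ R, (X - C x)) ∣ g :=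
    Finset.prod_dvd_of_coprime (fun x hx z hz hne => isCoprime_X_sub_C_of_isUnit_sub (hdiff x hx z hz hne)) fun x hx => by
      obtain ⟨a, -, rfl⟩ := Finset.mem_image.1 hx
      rw [dvd_iff_isRoot]
      exact hr0 a
  refine eq_of_monic_of_dvd_of_natDegree_le (monic_prod_of_monic _ _ fun x _ => monic_X_sub_C x) hg hdvd ?_
  rw [natDegree_prod_of_monic _ _ fun x _ => monic_X_sub_C x]
  simp only [natDegree_X_sub_C, Finset.sum_const, smul_eq_mul, mul_one]
  exact hcard.ge

end Groth.Agent.GaloisStage
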