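/-
Residue fields of the normalization of a finite subalgebra of a strict henselization, and minimal primes.
-/
import Mathlib
import Groth.Prelude.Def_EGA4b
import Groth.Agent.GaloisStage.Closed
import Groth.Agent.GaloisStage.ClosedBase
import Groth.Agent.GaloisStage.Inter
import Groth.Agent.GaloisStage.Apply
import Groth.Agent.Hensel.Branches
import Groth.Agent.S2747
import Groth.Agent.S0539

set_option autoImplicit false
set_option linter.style.haveILetI false
universe u

open Polynomial IsLocalRing

namespace Groth.Agent.GaloisStage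

variable {A S : Type u} [CommRing A] [HenselianLocalRing A] [CommRing S] [IsLocalRing S] [Algebra A S]
  [IsLocalHom (algebraMap A S)] [hS : Hensel.IsStrictHenselization A S]

/-- The residue map to a residue field of the normalization. -/
noncomputable abbrev normRes (D : Subalgebra A S) (M : Ideal (integralClosure D (FractionRing D))) [M.IsPrime] :
    D →+* M.ResidueField :=
  (algebraMap (integralClosure D (FractionRing D)) M.ResidueField).comp (algebraMap D (integralClosure D (FractionRing D)))

omit hS in
theorem normRes_isLocalHom (D : Subalgebra A S) [IsLocalRing D] (M : Ideal (integralClosure D (FractionRing D)))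
    [M.IsMaximal] : IsLocalHom (normRes D M) := by
  refine ⟨fun d hd => ?_⟩
  by_contra hu
  have h1 : M.comap (algebraMap D (integralClosure D (FractionRing D))) = maximalIdeal D :=
    IsLocalRing.eq_maximalIdeal (Ideal.isMaximal_comap_of_isIntegral_of_isMaximal M)
  have h2 : d ∈ M.comap (algebraMap D (integralClosure D (FractionRing D))) := h1 ▸ (mem_maximalIdeal d).2 hu
  exact hd.ne_zero ((Ideal.algebraMap_residueField_eq_zero).2 h2)

omit hS in
theorem mem_closure_normRes (D : Subalgebra A S) [IsLocalRing D] (M : Ideal (integralClosure D (FractionRing D)))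
    [M.IsMaximal] {z : M.ResidueField} :
    z ∈ Subfield.closure (Set.range (normRes D M)) ↔ ∃ d, normRes D M d = z := by
  haveI := normRes_isLocalHom D M
  refine ⟨fun hz => ?_, fun ⟨d, hd⟩ => hd ▸ Subfield.subset_closure ⟨d, rfl⟩⟩
  have h1 : Subfield.closure (Set.range (normRes D M)) ≤ (ResidueField.lift (normRes D M)).fieldRange :=
    Subfield.closure_le.2 fun y ⟨d, hd⟩ => ⟨residue D d, hd⟩
  obtain ⟨y, rfl⟩ := h1 hz
  obtain ⟨d, rfl⟩ := residue_surjective y
  exact ⟨d, rfl⟩

omit hS in
/-- A lift of a separable polynomial over the residue field makes a root separable over the image. -/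
theorem isSeparable_of_lift (D : Subalgebra A S) [IsLocalRing D] (M : Ideal (integralClosure D (FractionRing D)))
    [M.IsMaximal] {g : D[X]} (hsep : (g.map (residue D)).Separable) {z : M.ResidueField}
    (hz : g.eval₂ (normRes D M) z = 0) :
    IsSeparable (Subfield.closure (Set.range (normRes D M))) z := by
  haveI := normRes_isLocalHom D M
  let k0 := Subfield.closure (Set.range (normRes D M))
  let ρ0 : ResidueField D →+* k0 := (ResidueField.lift (normRes D M)).codRestrict k0 fun y => by
    obtain ⟨d, rfl⟩ := residue_surjective y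
    exact Subfield.subset_closure ⟨d, rfl⟩
  let g0 : k0[X] := (g.map (residue D)).map ρ0
  have h2 : aeval z g0 = 0 := by
    rw [aeval_def, eval₂_map, eval₂_map]
    exact hz
  exact (hsep.map (f := ρ0)).of_dvd (minpoly.dvd k0 z h2)

/-- A prime of the strict henselization inside the maximal ideal gives residues. -/
noncomputable def quotRes (Q : Ideal S) [Q.IsPrime] : S ⧸ Q →+* ResidueField S :=
  Ideal.Quotient.lift Q (residue S) fun x hx =>
    (residue_eq_zero_iff x).2 (IsLocalRing.le_maximalIdeal (Ideal.IsPrime.ne_top ‹_›) hx)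

omit hS in
theorem quotRes_eq_zero_iff (Q : Ideal S) [Q.IsPrime] (w : S ⧸ Q) : quotRes Q w = 0 ↔ ¬IsUnit w := by
  refine ⟨fun h hu => (hu.map (quotRes Q)).ne_zero h, fun h => ?_⟩
  obtain ⟨s, rfl⟩ := Ideal.Quotient.mk_surjective w
  refine (residue_eq_zero_iff s).2 ?_
  exact (mem_maximalIdeal s).2 fun hu => h (hu.map _)

/-- The field of a branch of a subalgebra. -/
noncomputable def branchField (D : Subalgebra A S) (Q : Ideal S) [Q.IsPrime] : Subfield (FractionRing (S ⧸ Q)) :=
  Subfield.closure (Set.range (algebraMap D (FractionRing (S ⧸ Q))))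

omit [HenselianLocalRing A] [IsLocalRing S] [IsLocalHom (algebraMap A S)] hS in
theorem algebraMap_mem_branchField (D : Subalgebra A S) (Q : Ideal S) [Q.IsPrime] (d : D) :
    algebraMap (S ⧸ Q) (FractionRing (S ⧸ Q)) (Ideal.Quotient.mk Q (d : S)) ∈ branchField D Q :=
  Subfield.subset_closure ⟨d, rfl⟩

omit hS in
theorem base_mem_branchField (D : Subalgebra A S) (Q : Ideal S) [Q.IsPrime] (a : A) :
    algebraMap A (FractionRing (S ⧸ Q)) a ∈ branchField D Q := by
  have h := algebraMap_mem_branchField D Q (algebraMap A D a)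
  rw [IsScalarTower.algebraMap_apply A (S ⧸ Q) (FractionRing (S ⧸ Q))]
  exact h

omit [HenselianLocalRing A] [IsLocalRing S] [IsLocalHom (algebraMap A S)] hS in
theorem exists_div_of_mem_branchField (D : Subalgebra A S) (Q : Ideal S) [Q.IsPrime] {z : FractionRing (S ⧸ Q)}
    (hz : z ∈ branchField D Q) :
    ∃ a b : D, algebraMap D (FractionRing (S ⧸ Q)) b ≠ 0 ∧
      z = algebraMap D _ a / algebraMap D _ b := by
  rw [branchField, Subfield.mem_closure_iff] at hz
  obtain ⟨y, hy, w, hw, rfl⟩ := hz
  rw [← RingHom.coe_range, Subring.closure_eq] at hy hw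
  obtain ⟨a, rfl⟩ := hy
  obtain ⟨b, rfl⟩ := hw
  by_cases hb : algebraMap D (FractionRing (S ⧸ Q)) b = 0
  · exact ⟨0, 1, by simp, by simp [hb]⟩
  · exact ⟨a, b, hb, rfl⟩

include hS in
/-- Minimal primes of the strict henselization contract to minimal primes of a finite subalgebra. -/
theorem comap_minimal (D : Subalgebra A S) {Q : Ideal S} (hQ : Q ∈ minimalPrimes S) :
    Q.comap (algebraMap D S) ∈ minimalPrimes D := by
  haveI := hQ.isPrime
  haveI := S0539.result A S
  have h1 := Hensel.comap_mem_minimalPrimes_of_flat (R := A) hQ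
  haveI := isIntegral_S (A := A) (S := S)
  haveI : Algebra.IsIntegral A D :=
    ⟨fun x => (isIntegral_algHom_iff D.val Subtype.val_injective).1 (Algebra.IsIntegral.isIntegral _)⟩
  refine ⟨⟨Ideal.IsPrime.comap _, bot_le⟩, fun q hq hle => ?_⟩
  haveI := hq.1
  rcases hle.eq_or_lt with h | h
  · exact h.ge
  · have h2 := Ideal.IsIntegral.comap_lt_comap (R := A) h
    rw [Ideal.comap_comap, ← IsScalarTower.algebraMap_eq] at h2
    exact absurd (h1.2 ⟨Ideal.IsPrime.comap _, bot_le⟩ h2.le) h2.not_ge

/-- The projection of the total ring of fractions to a branch. -/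
noncomputable def branchMap (D : Subalgebra A S) (Q : Ideal S) [Q.IsPrime]
    (hp : Q.comap (algebraMap D S) ∈ minimalPrimes D) : FractionRing D →+* FractionRing (S ⧸ Q) :=
  IsLocalization.lift (M := nonZeroDivisors D) (g := algebraMap D (FractionRing (S ⧸ Q))) fun y => by
    refine isUnit_iff_ne_zero.2 fun h => ?_
    refine notMem_nonZeroDivisors_of_mem_mem_minimalPrimes ?_ hp y.2
    have h1 := (map_eq_zero_iff _ (IsFractionRing.injective (S ⧸ Q) (FractionRing (S ⧸ Q)))).1 h
    exact (Ideal.Quotient.eq_zero_iff_mem (I := Q)).1 h1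

omit hS in
theorem branchMap_algebraMap (D : Subalgebra A S) (Q : Ideal S) [Q.IsPrime]
    (hp : Q.comap (algebraMap D S) ∈ minimalPrimes D) (d : D) :
    branchMap D Q hp (algebraMap D _ d) = algebraMap D (FractionRing (S ⧸ Q)) d := IsLocalization.lift_eq _ d

omit hS in
theorem branchMap_base (D : Subalgebra A S) (Q : Ideal S) [Q.IsPrime]
    (hp : Q.comap (algebraMap D S) ∈ minimalPrimes D) (a : A) :
    branchMap D Q hp (algebraMap A _ a) = algebraMap A (FractionRing (S ⧸ Q)) a := by
  rw [IsScalarTower.algebraMap_apply A D (FractionRing D), branchMap_algebraMap,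
    ← IsScalarTower.algebraMap_apply A D (FractionRing (S ⧸ Q))]

omit hS in
theorem branchMap_mem (D : Subalgebra A S) (Q : Ideal S) [Q.IsPrime]
    (hp : Q.comap (algebraMap D S) ∈ minimalPrimes D) (x : FractionRing D) :
    branchMap D Q hp x ∈ branchField D Q := by
  obtain ⟨a, b, rfl⟩ := IsLocalization.exists_mk'_eq (nonZeroDivisors D) x
  have h := congrArg (branchMap D Q hp) (IsLocalization.mk'_spec (FractionRing D) a b)
  rw [map_mul, branchMap_algebraMap, branchMap_algebraMap] at h
  have hb : algebraMap D (FractionRing (S ⧸ Q)) (b : D) ≠ 0 := fun h0 => by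
    have hu := ((IsLocalization.map_units (FractionRing D) b).map (branchMap D Q hp)).ne_zero
    rw [branchMap_algebraMap] at hu
    exact hu h0
  rw [(eq_div_iff hb).2 h]
  exact div_mem (Subfield.subset_closure ⟨a, rfl⟩) (Subfield.subset_closure ⟨b, rfl⟩)

/-- Every residue field of the normalization has trivial separable closure over the image. -/
def SepClosedRes (D : Subalgebra A S) : Prop :=
  ∀ (M : Ideal (integralClosure D (FractionRing D))) [M.IsMaximal],
    separableClosure (Subfield.closure (Set.range (normRes D M))) M.ResidueField = ⊥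

/-- The elements of a quotient lying in the branch field. -/
noncomputable def branchRing (D : Subalgebra A S) (Q : Ideal S) [Q.IsPrime] : Subalgebra A (S ⧸ Q) :=
  traceRing (A := A) (W := S ⧸ Q) (FractionRing (S ⧸ Q)) (branchField D Q) (base_mem_branchField D Q)

/-- The subalgebra inside the branch ring. -/
noncomputable def branchIncl (D : Subalgebra A S) (Q : Ideal S) [Q.IsPrime] : D →+* branchRing D Q :=
  ((Ideal.Quotient.mk Q).comp (algebraMap D S)).codRestrict (branchRing D Q).toSubring fun d =>
    algebraMap_mem_branchField D Q d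

omit hS in
theorem mem_branchRing (D : Subalgebra A S) (Q : Ideal S) [Q.IsPrime] {w : S ⧸ Q} :
    w ∈ branchRing D Q ↔ algebraMap (S ⧸ Q) (FractionRing (S ⧸ Q)) w ∈ branchField D Q := Iff.rfl

omit hS in
theorem isUnit_branchRing (D : Subalgebra A S) (Q : Ideal S) [Q.IsPrime] (r : branchRing D Q)
    (hr : IsUnit (r : S ⧸ Q)) : IsUnit r := by
  refine isUnit_iff_exists_inv.2 ⟨⟨↑hr.unit⁻¹, ?_⟩, Subtype.ext hr.mul_val_inv⟩
  rw [mem_branchRing, map_units_inv, IsUnit.unit_spec]
  exact inv_mem r.2

include hS in
theorem isIntegral_branchRing (D : Subalgebra A S) (Q : Ideal S) [Q.IsPrime] :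
    Algebra.IsIntegral A (branchRing D Q) := by
  haveI := isIntegral_S (A := A) (S := S)
  refine ⟨fun r => (isIntegral_algHom_iff (branchRing D Q).val Subtype.val_injective).1 ?_⟩
  obtain ⟨s, hs⟩ := Ideal.Quotient.mk_surjective (r : S ⧸ Q)
  show IsIntegral A (r : S ⧸ Q)
  rw [← hs]
  exact (Algebra.IsIntegral.isIntegral (R := A) s).map (Ideal.Quotient.mkₐ A Q)

include hS in
theorem exists_lift_branchRing [IsReduced S] (D : Subalgebra A S) (hfin : (minimalPrimes D).Finite)
    (Q : Ideal S) (hQ : Q ∈ minimalPrimes S) [Q.IsPrime] (r : branchRing D Q) :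
    ∃ x : integralClosure D (FractionRing D), branchMap D Q (comap_minimal D hQ) x =
      algebraMap (S ⧸ Q) (FractionRing (S ⧸ Q)) r := by
  haveI : IsReduced D := isReduced_of_injective (algebraMap D S) Subtype.val_injective
  haveI := isIntegral_branchRing D Q
  obtain ⟨a, b, hb, hab⟩ := exists_div_of_mem_branchField D Q r.2
  have hint : IsIntegral A (algebraMap (S ⧸ Q) (FractionRing (S ⧸ Q)) (r : S ⧸ Q)) :=
    ((Algebra.IsIntegral.isIntegral (R := A) r).map (branchRing D Q).val).map (IsScalarTower.toAlgHom A (S ⧸ Q) _)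
  rw [hab, ← branchMap_algebraMap D Q (comap_minimal D hQ), ← branchMap_algebraMap D Q (comap_minimal D hQ)] at hint
  obtain ⟨x, hx⟩ := exists_integral_lift' hfin (branchMap D Q (comap_minimal D hQ)) (branchMap_base D Q _) a b
    (by rwa [branchMap_algebraMap]) hint
  exact ⟨x, by rw [hx, branchMap_algebraMap, branchMap_algebraMap, hab]⟩

include hS in
/-- The branch ring maps to a residue field of the normalization. -/
theorem exists_branch_residue' [IsReduced S] (D : Subalgebra A S) (hfin : (minimalPrimes D).Finite)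
    [IsLocalRing D] (Q : Ideal S) (hQ : Q ∈ minimalPrimes S) [Q.IsPrime] :
    ∃ (M : Ideal (integralClosure D (FractionRing D))) (_ : M.IsMaximal) (χ : branchRing D Q →+* M.ResidueField),
      χ.comp (branchIncl D Q) = normRes D M := by
  let ψ : integralClosure D (FractionRing D) →+* FractionRing (S ⧸ Q) :=
    (branchMap D Q (comap_minimal D hQ)).comp (algebraMap _ (FractionRing D))
  haveI : (RingHom.ker ψ).IsPrime := RingHom.ker_isPrime ψ
  obtain ⟨M, hM, hle⟩ := Ideal.exists_le_maximal _ (Ideal.IsPrime.ne_top (I := RingHom.ker ψ) inferInstance)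
  refine ⟨M, hM, ?_⟩
  let rw0 : branchRing D Q →+* ψ.range :=
    ((algebraMap (S ⧸ Q) (FractionRing (S ⧸ Q))).comp (branchRing D Q).val.toRingHom).codRestrict ψ.range
      (exists_lift_branchRing D hfin Q hQ)
  let χ0 : integralClosure D (FractionRing D) ⧸ RingHom.ker ψ →+* M.ResidueField :=
    Ideal.Quotient.lift _ (algebraMap _ M.ResidueField) fun x hx => Ideal.algebraMap_residueField_eq_zero.2 (hle hx)
  refine ⟨χ0.comp ((RingHom.quotientKerEquivRange ψ).symm.toRingHom.comp rw0), RingHom.ext fun d => ?_⟩
  show χ0 ((RingHom.quotientKerEquivRange ψ).symm (rw0 (branchIncl D Q d))) = _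
  have h1 : rw0 (branchIncl D Q d) = RingHom.quotientKerEquivRange ψ (Ideal.Quotient.mk _ (algebraMap D _ d)) :=
    Subtype.ext (branchMap_algebraMap D Q (comap_minimal D hQ) d).symm
  rw [h1, RingEquiv.symm_apply_apply]
  rfl

include hS in
theorem exists_branch_residue [IsReduced S] [IsNoetherianRing A] (D : Subalgebra A S) [Module.Finite A D]
    [IsLocalRing D] (Q : Ideal S) (hQ : Q ∈ minimalPrimes S) [Q.IsPrime] :
    ∃ (M : Ideal (integralClosure D (FractionRing D))) (_ : M.IsMaximal) (χ : branchRing D Q →+* M.ResidueField),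
      χ.comp (branchIncl D Q) = normRes D M :=
  haveI : IsNoetherianRing D := IsNoetherianRing.of_finite A D
  exists_branch_residue' D (minimalPrimes.finite_of_isNoetherianRing D) Q hQ

include hS in
theorem branch_residue_kills [IsReduced S] (D : Subalgebra A S) [IsLocalRing D] (Q : Ideal S) [Q.IsPrime]
    (M : Ideal (integralClosure D (FractionRing D))) [M.IsMaximal] (χ : branchRing D Q →+* M.ResidueField)
    (hχD : χ.comp (branchIncl D Q) = normRes D M) (r : branchRing D Q) (hr : quotRes Q r = 0) : χ r = 0 := by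
  haveI := isIntegral_branchRing D Q
  haveI := isLocalHom_subalgebra D
  haveI : IsLocalHom (algebraMap A D) := ⟨fun a ha => isUnit_of_map_unit (algebraMap A S) a (ha.map (algebraMap D S))⟩
  haveI : IsLocalHom (algebraMap (branchRing D Q) (S ⧸ Q)) := ⟨isUnit_branchRing D Q⟩
  haveI : IsLocalRing (S ⧸ Q) := IsLocalRing.of_surjective' (Ideal.Quotient.mk Q) Ideal.Quotient.mk_surjective
  haveI : IsLocalRing (branchRing D Q) := RingHom.domain_isLocalRing (algebraMap (branchRing D Q) (S ⧸ Q))
  haveI := normRes_isLocalHom D M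
  haveI : (RingHom.ker χ).IsPrime := RingHom.ker_isPrime χ
  have h2 : (RingHom.ker χ).comap (algebraMap A (branchRing D Q)) = maximalIdeal A := by
    refine le_antisymm (IsLocalRing.le_maximalIdeal (Ideal.IsPrime.ne_top (Ideal.IsPrime.comap _))) fun a ha => ?_
    show χ (algebraMap A (branchRing D Q) a) = 0
    rw [show algebraMap A (branchRing D Q) a = branchIncl D Q (algebraMap A D a) from Subtype.ext rfl,
      ← RingHom.comp_apply χ, hχD]
    by_contra hne
    exact (mem_maximalIdeal a).1 ha (isUnit_of_map_unit (algebraMap A D) a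
      (isUnit_of_map_unit (normRes D M) _ (Ne.isUnit hne)))
  have h1 : RingHom.ker χ = maximalIdeal (branchRing D Q) := IsLocalRing.eq_maximalIdeal
    (Ideal.isMaximal_of_isIntegral_of_isMaximal_comap (R := A) _ (h2 ▸ maximalIdeal.isMaximal A))
  show r ∈ RingHom.ker χ
  rw [h1, mem_maximalIdeal, mem_nonunits_iff]
  exact fun hu => (quotRes_eq_zero_iff Q _).1 hr (hu.map (branchRing D Q).val)

include hS in
theorem exists_residual_poly (D : Subalgebra A S) [IsLocalRing D] (w : S) :
    ∃ g : D[X], g.Monic ∧ (g.map (residue D)).Separable ∧ g.eval₂ ((residue S).comp (algebraMap D S)) (residue S w) = 0 := by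
  haveI := isLocalHom_subalgebra D
  haveI : IsLocalHom (algebraMap A D) := ⟨fun a ha => isUnit_of_map_unit (algebraMap A S) a (ha.map (algebraMap D S))⟩
  haveI := hS.isSepClosure
  let g0 : ResidueField D →+* ResidueField S := ResidueField.lift ((residue S).comp (algebraMap D S))
  letI : Algebra (ResidueField D) (ResidueField S) := g0.toAlgebra
  haveI : IsScalarTower (ResidueField A) (ResidueField D) (ResidueField S) := IsScalarTower.of_algebraMap_eq fun z => by
    obtain ⟨a, rfl⟩ := residue_surjective z
    rfl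
  haveI : Algebra.IsSeparable (ResidueField D) (ResidueField S) :=
    Algebra.isSeparable_tower_top_of_isSeparable (ResidueField A) _ _
  have hsep : IsSeparable (ResidueField D) (residue S w) := Algebra.IsSeparable.isSeparable _ _
  obtain ⟨g, hgm, -, hgmon⟩ := lifts_and_degree_eq_and_monic (f := residue D)
    (p := minpoly (ResidueField D) (residue S w)) (by
      rw [mem_lifts]; exact Polynomial.map_surjective _ residue_surjective _) (minpoly.monic hsep.isIntegral)
  refine ⟨g, hgmon, by rw [hgm]; exact hsep, ?_⟩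
  have h : ((residue S).comp (algebraMap D S)) = g0.comp (residue D) := RingHom.ext fun d => rfl
  rw [h, ← eval₂_map, hgm]
  exact minpoly.aeval _ _

omit hS in
theorem exists_residue_aux (D : Subalgebra A S) [IsLocalRing D] (M : Ideal (integralClosure D (FractionRing D)))
    [M.IsMaximal] (hcl : separableClosure (Subfield.closure (Set.range (normRes D M))) M.ResidueField = ⊥)
    {R : Type u} [CommRing R] (r : R →+* ResidueField S) (dR : D →+* R)
    (hr : r.comp dR = (residue S).comp (algebraMap D S)) (χ : R →+* M.ResidueField)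
    (hχD : χ.comp dR = normRes D M) (hnu : ∀ x, r x = 0 → χ x = 0) (hu : ∀ x, r x ≠ 0 → IsUnit x) (w : R)
    {g : D[X]} (hsep : (g.map (residue D)).Separable) (hg : g.eval₂ ((residue S).comp (algebraMap D S)) (r w) = 0) :
    ∃ d : D, residue S (d : S) = r w := by
  have h1 : g.eval₂ (normRes D M) (χ w) = 0 := by
    rw [← hχD, ← hom_eval₂]
    refine hnu _ ?_
    rw [hom_eval₂, hr]
    exact hg
  have h2 := mem_separableClosure_iff.2 (isSeparable_of_lift D M hsep h1)
  rw [hcl, IntermediateField.mem_bot] at h2
  obtain ⟨y, hy⟩ := h2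
  obtain ⟨d, hd⟩ := (mem_closure_normRes D M).1 y.2
  refine ⟨d, ?_⟩
  by_contra hne
  have h3 : χ (w - dR d) = 0 := by
    rw [map_sub, ← RingHom.comp_apply χ dR, hχD, hd, ← hy]
    exact sub_self _
  refine ((hu (w - dR d) ?_).map χ).ne_zero h3
  rw [map_sub, ← RingHom.comp_apply r dR, hr, sub_ne_zero]
  exact Ne.symm hne

include hS in
/-- Residues of elements of a branch field lie in the residues of the subalgebra. -/
theorem residue_mem_of_sepClosedRes [IsReduced S] [IsNoetherianRing A] (D : Subalgebra A S) [Module.Finite A D]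
    (hcl : SepClosedRes D) (Q : Ideal S) (hQ : Q ∈ minimalPrimes S) [Q.IsPrime] (w : S)
    (hw : algebraMap (S ⧸ Q) (FractionRing (S ⧸ Q)) (Ideal.Quotient.mk Q w) ∈ branchField D Q) :
    ∃ d ∈ D, residue S d = residue S w := by
  haveI := isLocalRing_subalgebra D
  obtain ⟨M, hM, χ, hχ⟩ := exists_branch_residue D Q hQ
  obtain ⟨g, -, hsep, hg⟩ := exists_residual_poly D w
  obtain ⟨d, hd⟩ := exists_residue_aux D M (hcl M) ((quotRes Q).comp (branchRing D Q).val.toRingHom) (branchIncl D Q)
    (RingHom.ext fun x => rfl) χ hχ (branch_residue_kills D Q M χ hχ)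
    (fun x hx => isUnit_branchRing D Q x (not_not.1 fun h => hx ((quotRes_eq_zero_iff Q _).2 h)))
    ⟨Ideal.Quotient.mk Q w, hw⟩ hsep hg
  exact ⟨d, d.2, hd⟩

end Groth.Agent.GaloisStage
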