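/-
Étale subalgebras extending minimal primes: the criterion by residue fields of the normalization.
-/
import Mathlib
import Groth.Agent.GaloisStage.ClosedRes

set_option autoImplicit false
set_option linter.style.haveILetI false
universe u

open Polynomial IsLocalRing

namespace Groth.Agent.GaloisStage

/-- An automorphism fixing the residues of fixed elements acts on a root like an element of the group. -/
theorem exists_group_match {T Ω : Type u} [CommRing T] [Field Ω] {G : Type u} [Group G] [Fintype G]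
    [MulSemiringAction G T] (r : T →+* Ω) (τ : Ω →+* Ω) (h : ∀ x : T, (∀ σ : G, σ • x = x) → τ (r x) = r x)
    (a : T) : ∃ σ : G, τ (r a) = r (σ • a) := by
  classical
  let P : T[X] := ∏ σ : G, (X - C (σ • a))
  have hfix : ∀ i, ∀ ρ : G, ρ • P.coeff i = P.coeff i := fun i ρ => by
    have h1 : P.map (MulSemiringAction.toRingHom G T ρ) = P := by
      rw [Polynomial.map_prod]
      simp only [Polynomial.map_sub, map_X, map_C, MulSemiringAction.toRingHom_apply, ← mul_smul]
      exact Fintype.prod_equiv (Equiv.mulLeft ρ) _ _ fun σ => rfl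
    conv_rhs => rw [← h1, coeff_map, MulSemiringAction.toRingHom_apply]
  have hmap : (P.map r).map τ = P.map r := by
    ext i
    rw [coeff_map, coeff_map, h _ (hfix i)]
  have hroot : (P.map r).eval (r a) = 0 := by
    rw [eval_map, eval₂_at_apply, eval_prod, Finset.prod_eq_zero (Finset.mem_univ (1 : G)) (by simp), map_zero]
  have h2 : (P.map r).eval (τ (r a)) = 0 := by
    rw [← hmap, eval_map, eval₂_at_apply, hroot, map_zero]
  rw [Polynomial.map_prod, eval_prod, Finset.prod_eq_zero_iff] at h2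
  obtain ⟨σ, -, hσ⟩ := h2
  rw [Polynomial.map_sub, map_X, map_C, eval_sub, eval_X, eval_C, sub_eq_zero] at hσ
  exact ⟨σ, hσ⟩

variable {A S : Type u} [CommRing A] [HenselianLocalRing A] [CommRing S] [IsLocalRing S] [Algebra A S]
  [IsLocalHom (algebraMap A S)] [hS : Hensel.IsStrictHenselization A S]

include hS in
theorem exists_match_stage (D : Subalgebra A S) (Q : Ideal S) [Q.IsPrime] (τ : ResGal A S)
    (hres : ∀ w : S, algebraMap (S ⧸ Q) (FractionRing (S ⧸ Q)) (Ideal.Quotient.mk Q w) ∈ branchField D Q →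
      τ (residue S w) = residue S w) (st : Stage A S) (x : S) (hx : x ∈ st.ring) :
    (x ∈ Q → τ • x ∈ Q) ∧ (x ∈ D → τ • x - x ∈ Q) := by
  classical
  let π : S →ₐ[A] S ⧸ Q := Ideal.Quotient.mkₐ A Q
  obtain ⟨G, _, _, _, _, -, hfix⟩ := exists_group π st (FractionRing (S ⧸ Q)) (branchField D Q) (base_mem_branchField D Q)
  let T := st.ring.map π
  let aT : T := ⟨π st.α, Subalgebra.mem_map.2 ⟨st.α, st.root_mem, rfl⟩⟩
  obtain ⟨σ, hσ⟩ := exists_group_match ((quotRes Q).comp T.val.toRingHom) (τ : ResidueField S →+* ResidueField S)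
    (fun y hy => by
      obtain ⟨w, hw⟩ := Ideal.Quotient.mk_surjective (y : S ⧸ Q)
      have h2 : algebraMap (S ⧸ Q) (FractionRing (S ⧸ Q)) (Ideal.Quotient.mk Q w) ∈ branchField D Q := by
        rw [hw]; exact (hfix y).2 hy
      have h1 := hres w h2
      show τ (quotRes Q (y : S ⧸ Q)) = quotRes Q (y : S ⧸ Q)
      rw [← hw]
      exact h1) aT
  let ρ : st.ring →ₐ[A] T := (π.comp st.ring.val).codRestrict T fun z => Subalgebra.mem_map.2 ⟨z, z.2, rfl⟩
  let φ1 : st.ring →ₐ[A] S ⧸ Q := (π.comp (smulAlg A S τ)).comp st.ring.val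
  let φ2 : st.ring →ₐ[A] S ⧸ Q := (T.val.comp (MulSemiringAction.toAlgHom A T σ)).comp ρ
  have hαroot : aeval ((σ • aT : T) : S ⧸ Q) st.f = 0 := by
    have h1 : aeval aT st.f = 0 := Subtype.ext (by
      rw [← Subalgebra.val_apply, ← aeval_algHom_apply]
      show aeval (π st.α) st.f = 0
      rw [aeval_algHom_apply, st.root, map_zero])
    rw [← Subalgebra.val_apply, aeval_algHom_apply,
      show σ • aT = MulSemiringAction.toAlgHom A T σ aT from rfl, aeval_algHom_apply, h1, map_zero, map_zero]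
  have hτroot : τ • st.α ∈ st.roots := st.root_mem_roots (by
    show aeval (smulAlg A S τ st.α) st.f = 0
    rw [aeval_algHom_apply, st.root, map_zero])
  have hα : π (τ • st.α) = ((σ • aT : T) : S ⧸ Q) := by
    have h0 := congrArg (Polynomial.map π.toRingHom) st.prod
    rw [Polynomial.map_map, Polynomial.map_prod] at h0
    simp only [Polynomial.map_sub, map_X, map_C] at h0
    have h1 : ∏ r ∈ st.roots, (((σ • aT : T) : S ⧸ Q) - π r) = 0 := by
      have h2 := congrArg (Polynomial.eval ((σ • aT : T) : S ⧸ Q)) h0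
      rw [eval_prod, eval_map] at h2
      simp only [eval_sub, eval_X, eval_C] at h2
      rw [AlgHom.toRingHom_eq_coe, AlgHom.comp_algebraMap, ← aeval_def, hαroot] at h2
      exact h2.symm
    obtain ⟨r, hr, hre⟩ := Finset.prod_eq_zero_iff.1 h1
    rw [sub_eq_zero] at hre
    rw [hre]
    refine congrArg π (st.roots_residue_inj hτroot hr ?_)
    rw [residue_smul]
    refine hσ.trans ?_
    show quotRes Q ((σ • aT : T) : S ⧸ Q) = residue S r
    rw [hre]
    rfl
  have key : φ1 = φ2 := by
    refine AlgHom.ext fun z => ?_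
    obtain ⟨z, hz⟩ := z
    have hz' := hz
    rw [Stage.ring, Algebra.adjoin_singleton_eq_range_aeval] at hz'
    obtain ⟨p, rfl⟩ := hz'
    have h2 : (⟨aeval st.α p, hz⟩ : st.ring) = aeval (⟨st.α, st.root_mem⟩ : st.ring) p := Subtype.ext (by
      show aeval st.α p = st.ring.val (aeval (⟨st.α, st.root_mem⟩ : st.ring) p)
      rw [← aeval_algHom_apply]; rfl)
    show φ1 ⟨aeval st.α p, hz⟩ = φ2 ⟨aeval st.α p, hz⟩
    rw [h2, ← aeval_algHom_apply φ1, ← aeval_algHom_apply φ2]
    exact congrArg (fun w => aeval w p) hα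
  have hx2 : π (τ • x) = ((σ • ρ ⟨x, hx⟩ : T) : S ⧸ Q) := AlgHom.congr_fun key ⟨x, hx⟩
  constructor
  · intro hxQ
    have h1 : ρ ⟨x, hx⟩ = 0 := Subtype.ext (Ideal.Quotient.eq_zero_iff_mem.2 hxQ)
    rw [h1, smul_zero] at hx2
    exact Ideal.Quotient.eq_zero_iff_mem.1 hx2
  · intro hxD
    have h1 : σ • ρ ⟨x, hx⟩ = ρ ⟨x, hx⟩ := (hfix _).1 (algebraMap_mem_branchField D Q ⟨x, hxD⟩) σ
    rw [h1] at hx2
    exact (Ideal.Quotient.eq.1 hx2)

include hS in
/-- The residual condition gives fixedness and stability. -/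
theorem fix_and_stable_of_sepClosedRes [IsReduced S] [IsNoetherianRing A] (D : Subalgebra A S) [Module.Finite A D]
    (hcl : SepClosedRes D) :
    (∀ τ ∈ resFix D, ∀ d ∈ D, τ • d = d) ∧ ∀ Q ∈ minimalPrimes S, ∀ τ ∈ resFix D, ∀ x ∈ Q, τ • x ∈ Q := by
  classical
  have key : ∀ Q ∈ minimalPrimes S, ∀ τ ∈ resFix D, ∀ x : S, (x ∈ Q → τ • x ∈ Q) ∧ (x ∈ D → τ • x - x ∈ Q) := by
    intro Q hQ τ hτ x
    haveI := hQ.isPrime
    obtain ⟨st, hst⟩ := exists_stage A ({x} : Finset S)
    refine exists_match_stage D Q τ (fun w hw => ?_) st x (hst (by simp))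
    obtain ⟨d, hd, hdw⟩ := residue_mem_of_sepClosedRes D hcl Q hQ w hw
    rw [← hdw, hτ d hd]
  refine ⟨fun τ hτ d hd => sub_eq_zero.1 ?_, fun Q hQ τ hτ x hx => (key Q hQ τ hτ x).1 hx⟩
  have h1 : τ • d - d ∈ sInf (minimalPrimes S) :=
    Submodule.mem_sInf.2 fun Q hQ => (key Q hQ τ hτ d).2 hd
  rw [minimalPrimes, Ideal.sInf_minimalPrimes] at h1
  obtain ⟨n, hn⟩ := h1
  exact IsNilpotent.eq_zero ⟨n, Ideal.mem_bot.1 hn⟩

include hS in
/-- A polynomial with roots in a branch field, all permuted trivially, has a residual root. -/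
theorem exists_residual_root (D : Subalgebra A S) [IsLocalRing D] (hfix : ∀ τ ∈ resFix D, ∀ d ∈ D, τ • d = d)
    (Q : Ideal S) [Q.IsPrime] (hQ : ∀ τ ∈ resFix D, ∀ x ∈ Q, τ • x ∈ Q) {g : D[X]} (hg : g.Monic)
    (hsep : (g.map ((residue S).comp (algebraMap D S))).Separable) (y : FractionRing (S ⧸ Q)) (hy : y ∈ branchField D Q)
    (hgy : g.eval₂ (algebraMap D (FractionRing (S ⧸ Q))) y = 0) :
    ∃ d : D, (g.map ((residue S).comp (algebraMap D S))).eval (residue S (d : S)) = 0 := by
  classical
  haveI := hS.henselian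
  haveI := hS.isSepClosure.1
  let gS := g.map (algebraMap D S)
  obtain ⟨R, hR, hdiff, -⟩ := exists_prod_roots (g := gS) (hg.map _) (by rw [Polynomial.map_map]; exact hsep)
  let φ : S →+* FractionRing (S ⧸ Q) := (algebraMap (S ⧸ Q) (FractionRing (S ⧸ Q))).comp (Ideal.Quotient.mk Q)
  have hφQ : ∀ s, φ s = 0 ↔ s ∈ Q := fun s => by
    rw [RingHom.comp_apply, map_eq_zero_iff _ (IsFractionRing.injective (S ⧸ Q) _), Ideal.Quotient.eq_zero_iff_mem]
  have hφD : φ.comp (algebraMap D S) = algebraMap D (FractionRing (S ⧸ Q)) := rfl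
  obtain ⟨r, hr, hry⟩ : ∃ r ∈ R, φ r = y := by
    have h1 : (gS.map φ).eval y = 0 := by rw [Polynomial.map_map, hφD, eval_map]; exact hgy
    rw [hR, Polynomial.map_prod, eval_prod, Finset.prod_eq_zero_iff] at h1
    obtain ⟨r, hr, hre⟩ := h1
    rw [Polynomial.map_sub, map_X, map_C, eval_sub, eval_X, eval_C, sub_eq_zero] at hre
    exact ⟨r, hr, hre.symm⟩
  have hgr : gS.eval r = 0 := by rw [hR, eval_prod]; exact Finset.prod_eq_zero hr (by simp)
  obtain ⟨a, b, hb, hab⟩ := exists_div_of_mem_branchField D Q hy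
  have hfixr : ∀ τ ∈ resFix D, τ (residue S r) = residue S r := by
    intro τ hτ
    rw [← residue_smul]
    have h3 : r * (b : S) - (a : S) ∈ Q := by
      rw [← hφQ, map_sub, map_mul, hry, hab, sub_eq_zero]
      exact div_mul_cancel₀ _ hb
    have h4 := hQ τ hτ _ h3
    rw [smul_sub, smul_mul', hfix τ hτ _ a.2, hfix τ hτ _ b.2] at h4
    have h5 : (τ • r - r) * (b : S) ∈ Q := by
      rw [show (τ • r - r) * (b : S) = ((τ • r) * (b : S) - (a : S)) - (r * (b : S) - (a : S)) by ring]
      exact sub_mem h4 h3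
    rcases Ideal.IsPrime.mem_or_mem ‹_› h5 with h6 | h6
    · rw [← sub_eq_zero, ← map_sub, residue_eq_zero_iff]
      exact IsLocalRing.le_maximalIdeal (Ideal.IsPrime.ne_top ‹_›) h6
    · exact absurd ((hφQ _).2 h6) hb
  obtain ⟨d, hd, hdr⟩ := exists_residue_of_fixed D hfixr
  refine ⟨⟨d, hd⟩, ?_⟩
  show (g.map ((residue S).comp (algebraMap D S))).eval (residue S d) = 0
  rw [hdr, ← Polynomial.map_map, eval_map, eval₂_at_apply, hgr, map_zero]

/-- Hensel's lemma in a domain quotient of an integral algebra. -/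
theorem exists_root_range {A D D' K : Type u} [CommRing A] [HenselianLocalRing A] [CommRing D] [CommRing D']
    [Algebra A D'] [Algebra.IsIntegral A D'] [Field K] [Algebra A K] (ψ : D' →ₐ[A] K) (M : Ideal D') [M.IsMaximal]
    (hle : RingHom.ker ψ.toRingHom ≤ M) (ι : D →+* D') {g : D[X]} (hg : g.Monic) (x : D') (h0 : g.eval₂ ι x ∈ M)
    (h1 : g.derivative.eval₂ ι x ∉ M) : ∃ w : D', g.eval₂ (ψ.toRingHom.comp ι) (ψ w) = 0 := by
  let ψR : D' →ₐ[A] ψ.range := ψ.rangeRestrict
  have hψR : Function.Surjective ψR := ψ.rangeRestrict_surjective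
  haveI : Algebra.IsIntegral A ψ.range := Algebra.IsIntegral.of_surjective ψR hψR
  haveI : IsLocalRing ψ.range := Hensel.isLocalRing_of_integral_domain A ψ.range
  haveI : HenselianLocalRing ψ.range := Hensel.henselianLocalRing_finite A ψ.range
  have hkerR : RingHom.ker ψR.toRingHom ≤ M := fun z hz => hle (congrArg Subtype.val hz)
  have hcm : (M.map ψR.toRingHom).comap ψR.toRingHom = M :=
    (Ideal.comap_map_of_surjective' ψR.toRingHom hψR M).trans (sup_eq_left.2 hkerR)
  have hmax : M.map ψR.toRingHom = maximalIdeal ψ.range := by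
    rcases Ideal.map_eq_top_or_isMaximal_of_surjective ψR.toRingHom hψR ‹M.IsMaximal› with h | h
    · rw [h, Ideal.comap_top] at hcm
      exact absurd hcm.symm (Ideal.IsPrime.ne_top inferInstance)
    · exact IsLocalRing.eq_maximalIdeal h
  have hmem : ∀ z : D', ψR.toRingHom z ∈ maximalIdeal ψ.range ↔ z ∈ M := fun z => by
    rw [← hmax, ← Ideal.mem_comap, hcm]
  let ιD : D →+* ψ.range := ψR.toRingHom.comp ι
  have hev : ∀ p : D[X], (p.map ιD).eval (ψR.toRingHom x) = ψR.toRingHom (p.eval₂ ι x) := fun p => by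
    rw [eval_map]; exact (hom_eval₂ p ι ψR.toRingHom x).symm
  obtain ⟨z, hz, -⟩ := HenselianLocalRing.is_henselian (g.map ιD) (hg.map _) (ψR.toRingHom x)
    (by rw [hev, hmem]; exact h0)
    (by
      rw [derivative_map, hev]
      by_contra hu
      exact h1 ((hmem _).1 ((mem_maximalIdeal _).2 hu)))
  obtain ⟨w, rfl⟩ := hψR z
  refine ⟨w, ?_⟩
  have h2 := congrArg ψ.range.val.toRingHom ((eval_map ιD _).symm.trans hz)
  rw [map_zero, hom_eval₂] at h2
  exact h2

include hS in
theorem exists_branch_prime [IsReduced S] [IsNoetherianRing A] (D : Subalgebra A S) [Module.Finite A D]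
    (M : Ideal (integralClosure D (FractionRing D))) [M.IsMaximal] :
    ∃ (Q : Ideal S) (_ : Q.IsPrime) (hQ : Q ∈ minimalPrimes S),
      ∀ x : integralClosure D (FractionRing D), branchMap D Q (comap_minimal D hQ) x = 0 → x ∈ M := by
  haveI : IsReduced D := isReduced_of_injective (algebraMap D S) Subtype.val_injective
  haveI : IsNoetherianRing D := IsNoetherianRing.of_finite A D
  obtain ⟨P, hP, hPM⟩ := Ideal.exists_minimalPrimes_le
    (show (⊥ : Ideal (integralClosure D (FractionRing D))) ≤ M from bot_le)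
  obtain ⟨P', hP', hP'P⟩ := Ideal.exists_comap_eq_of_mem_minimalPrimes_of_injective
    (f := algebraMap (integralClosure D (FractionRing D)) (FractionRing D)) Subtype.val_injective P hP
  have hdisj : Disjoint ((P'.comap (algebraMap D (FractionRing D)) : Ideal D) : Set D) (nonZeroDivisors D) :=
    Set.disjoint_left.2 fun z hz hz' => hP'.ne_top (Ideal.eq_top_of_isUnit_mem _ hz
      (IsLocalization.map_units (FractionRing D) (⟨z, hz'⟩ : nonZeroDivisors D)))
  have hp : P'.comap (algebraMap D (FractionRing D)) ∈ minimalPrimes D := minimal_of_disjoint hdisj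
  obtain ⟨Q, hQ, hQp⟩ := Ideal.exists_minimalPrimes_comap_eq (I := (⊥ : Ideal S)) (algebraMap D S)
    (P'.comap (algebraMap D (FractionRing D))) (by
      rw [Ideal.comap_bot_of_injective (algebraMap D S) Subtype.val_injective]
      exact hp)
  haveI := hQ.isPrime
  refine ⟨Q, inferInstance, hQ, fun x hx => hPM ?_⟩
  have hker : P' = RingHom.ker (branchMap D Q (comap_minimal D hQ)) := by
    refine eq_ker_of_comap_eq _ P' ?_
    refine hQp.symm.trans ?_
    ext d
    rw [Ideal.mem_comap, Ideal.mem_comap, RingHom.mem_ker, branchMap_algebraMap]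
    exact ((map_eq_zero_iff _ (IsFractionRing.injective (S ⧸ Q) _)).trans (Ideal.Quotient.eq_zero_iff_mem (I := Q))).symm
  rw [← hP'P, Ideal.mem_comap, hker]
  exact hx

include hS in
/-- A root in the branch field for an approximate root in the normalization. -/
theorem exists_root_branch [IsReduced S] [IsNoetherianRing A] (D : Subalgebra A S) [Module.Finite A D]
    (M : Ideal (integralClosure D (FractionRing D))) [M.IsMaximal] {g : D[X]} (hg : g.Monic)
    (x : integralClosure D (FractionRing D))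
    (h0 : g.eval₂ (normRes D M) (algebraMap _ M.ResidueField x) = 0)
    (h1 : g.derivative.eval₂ (normRes D M) (algebraMap _ M.ResidueField x) ≠ 0) :
    ∃ (Q : Ideal S) (_ : Q.IsPrime), Q ∈ minimalPrimes S ∧ ∃ y ∈ branchField D Q,
      g.eval₂ (algebraMap D (FractionRing (S ⧸ Q))) y = 0 := by
  obtain ⟨Q, hQp, hQ, hker⟩ := exists_branch_prime D M
  refine ⟨Q, hQp, hQ, ?_⟩
  let φA : FractionRing D →ₐ[A] FractionRing (S ⧸ Q) :=
    { branchMap D Q (comap_minimal D hQ) with commutes' := branchMap_base D Q (comap_minimal D hQ) }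
  let ψ : integralClosure D (FractionRing D) →ₐ[A] FractionRing (S ⧸ Q) :=
    φA.comp (IsScalarTower.toAlgHom A (integralClosure D (FractionRing D)) (FractionRing D))
  haveI : Algebra.IsIntegral A D := Algebra.IsIntegral.of_finite A D
  haveI : Algebra.IsIntegral A (integralClosure D (FractionRing D)) := Algebra.IsIntegral.trans D
  obtain ⟨w, hw⟩ := exists_root_range ψ M (fun z hz => hker z hz)
    (algebraMap D (integralClosure D (FractionRing D))) hg x
    (Ideal.algebraMap_residueField_eq_zero.1 (by rw [hom_eval₂]; exact h0))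
    (fun h => h1 (by rw [← hom_eval₂]; exact Ideal.algebraMap_residueField_eq_zero.2 h))
  refine ⟨ψ w, branchMap_mem D Q (comap_minimal D hQ) _, ?_⟩
  rw [show algebraMap D (FractionRing (S ⧸ Q)) = ψ.toRingHom.comp (algebraMap D (integralClosure D (FractionRing D)))
    from RingHom.ext fun d => (branchMap_algebraMap D Q (comap_minimal D hQ) d).symm]
  exact hw

/-- Lifting the minimal polynomial of a separable element over a field surjected on by the residue field. -/
theorem exists_lift_minpoly {D : Type u} [CommRing D] [IsLocalRing D] {k0 E : Type u} [Field k0] [Field E]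
    [Algebra k0 E] (ρ : ResidueField D →+* k0) (hρ : Function.Surjective ρ) (z : E) (hz : IsSeparable k0 z)
    (f : D →+* E) (hf : ∀ d, algebraMap k0 E (ρ (residue D d)) = f d) :
    ∃ g : D[X], g.Monic ∧ (g.map (residue D)).Separable ∧
      g.eval₂ f z = 0 ∧ g.derivative.eval₂ f z ≠ 0 ∧
      ∀ c : ResidueField D, (g.map (residue D)).eval c = 0 → z ∈ (algebraMap k0 E).range := by
  have hsurj : Function.Surjective (ρ.comp (residue D)) := fun y => by
    obtain ⟨w, rfl⟩ := hρ y
    obtain ⟨d, rfl⟩ := residue_surjective w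
    exact ⟨d, rfl⟩
  obtain ⟨g, hgm, -, hg⟩ := lifts_and_degree_eq_and_monic (f := ρ.comp (residue D)) (p := minpoly k0 z) (by
    rw [mem_lifts]; exact Polynomial.map_surjective _ hsurj _) (minpoly.monic hz.isIntegral)
  have hev : ∀ p : D[X], p.eval₂ f z = aeval z (p.map (ρ.comp (residue D))) := fun p => by
    rw [aeval_def, eval₂_map, show (algebraMap k0 E).comp (ρ.comp (residue D)) = f from RingHom.ext hf]
  refine ⟨g, hg, ?_, by rw [hev, hgm]; exact minpoly.aeval _ _, ?_, fun c hc => ?_⟩
  · rw [← separable_map ρ, Polynomial.map_map, hgm]; exact hz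
  · rw [hev, ← derivative_map, hgm]
    exact hz.aeval_derivative_ne_zero (minpoly.aeval _ _)
  · have hroot : (minpoly k0 z).IsRoot (ρ c) := by
      show (minpoly k0 z).eval (ρ c) = 0
      rw [← hgm, ← Polynomial.map_map, eval_map, eval₂_at_apply, hc, map_zero]
    exact minpoly.mem_range_of_degree_eq_one k0 _
      (degree_eq_one_of_irreducible_of_root (minpoly.irreducible hz.isIntegral) hroot)

include hS in
theorem exists_residual_root' (D : Subalgebra A S) [IsLocalRing D] (hfix : ∀ τ ∈ resFix D, ∀ d ∈ D, τ • d = d)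
    (Q : Ideal S) [Q.IsPrime] (hQ : ∀ τ ∈ resFix D, ∀ x ∈ Q, τ • x ∈ Q) {g : D[X]} (hg : g.Monic)
    (hsep : (g.map (residue D)).Separable) (y : FractionRing (S ⧸ Q)) (hy : y ∈ branchField D Q)
    (hgy : g.eval₂ (algebraMap D (FractionRing (S ⧸ Q))) y = 0) :
    ∃ c : ResidueField D, (g.map (residue D)).eval c = 0 := by
  haveI := isLocalHom_subalgebra D
  let i : ResidueField D →+* ResidueField S := ResidueField.lift ((residue S).comp (algebraMap D S))
  have hg0 : (residue S).comp (algebraMap D S) = i.comp (residue D) := RingHom.ext fun d => rfl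
  obtain ⟨d, hd⟩ := exists_residual_root D hfix Q hQ hg (by rw [hg0, ← Polynomial.map_map]; exact hsep.map) y hy hgy
  refine ⟨residue D d, i.injective ?_⟩
  rw [map_zero, ← eval₂_at_apply, ← eval_map, Polynomial.map_map, ← hg0]
  exact hd

include hS in
set_option maxHeartbeats 1600000 in
/-- Fixedness and stability give the residual condition. -/
theorem sepClosedRes_of_fix_and_stable [IsReduced S] [IsNoetherianRing A] (D : Subalgebra A S) [Module.Finite A D]
    (hfix : ∀ τ ∈ resFix D, ∀ d ∈ D, τ • d = d)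
    (hstab : ∀ Q ∈ minimalPrimes S, ∀ τ ∈ resFix D, ∀ x ∈ Q, τ • x ∈ Q) : SepClosedRes D := by
  intro M hM
  haveI := isLocalRing_subalgebra D
  haveI := isLocalHom_subalgebra D
  haveI := normRes_isLocalHom D M
  refine eq_bot_iff.2 fun z hz => ?_
  obtain ⟨x, rfl⟩ := Ideal.algebraMap_residueField_surjective M z
  let ρ : ResidueField D →+* Subfield.closure (Set.range (normRes D M)) :=
    (ResidueField.lift (normRes D M)).codRestrict _ fun w => by
      obtain ⟨d, rfl⟩ := residue_surjective w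
      exact Subfield.subset_closure ⟨d, rfl⟩
  have hρ : Function.Surjective ρ := fun w => by
    obtain ⟨d, hd⟩ := (mem_closure_normRes D M).1 w.2
    exact ⟨residue D d, Subtype.ext hd⟩
  obtain ⟨g, hg, hsep, h0, h1, hlin⟩ := exists_lift_minpoly ρ hρ _ (mem_separableClosure_iff.1 hz) (normRes D M)
    fun d => rfl
  obtain ⟨Q, hQp, hQ, y, hy, hgy⟩ := exists_root_branch D M hg x h0 h1
  haveI := hQp
  obtain ⟨c, hc⟩ := exists_residual_root' D hfix Q (hstab Q hQ) hg hsep y hy hgy
  exact IntermediateField.mem_bot.2 (hlin c hc)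

include hS in
/-- The criterion. -/
theorem etale_extended_iff [IsReduced S] [IsNoetherianRing A] (D : Subalgebra A S) [Module.Finite A D] :
    (Algebra.Etale A D ∧
        ∀ Q ∈ minimalPrimes S, Q = Ideal.map (algebraMap D S) (Q.comap (algebraMap D S))) ↔ SepClosedRes D := by
  constructor
  · rintro ⟨het, hext⟩
    refine sepClosedRes_of_fix_and_stable D (fun τ hτ d hd => fix_of_unramified D hτ hd) fun Q hQ τ hτ x hx => ?_
    have h1 : Ideal.map (algebraMap D S) (Q.comap (algebraMap D S)) ≤ Q.comap (MulSemiringAction.toRingHom _ S τ) :=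
      Ideal.map_le_iff_le_comap.2 fun d hd => by
        show τ • (d : S) ∈ Q
        rw [fix_of_unramified D hτ d.2]
        exact hd
    exact h1 ((hext Q hQ) ▸ hx)
  · intro hcl
    obtain ⟨hfix, hstab⟩ := fix_and_stable_of_sepClosedRes D hcl
    exact ⟨etale_of_fix D hfix, fun Q hQ => extended_of_stable D hfix Q (hstab Q hQ)⟩

end Groth.Agent.GaloisStage
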