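/-
Subalgebras of a strict henselization fixed by the automorphisms fixing their residues.
-/
import Mathlib
import Groth.Prelude.Def_EssEt
import Groth.Agent.GaloisStage.Closed

set_option autoImplicit false
set_option linter.style.haveILetI false
universe u

open Polynomial IsLocalRing

namespace Groth.Agent.GaloisStage

variable {A S : Type u} [CommRing A] [HenselianLocalRing A] [CommRing S] [IsLocalRing S] [Algebra A S]
  [IsLocalHom (algebraMap A S)] [hS : Hensel.IsStrictHenselization A S]

include hS in
/-- An automorphism fixing the residue of a simple root fixes the root. -/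
theorem smul_eq_of_residue {α : S} {f : A[X]} (hα : aeval α f = 0) (hd : IsUnit (aeval α f.derivative))
    {τ : ResGal A S} (hτ : τ (residue S α) = residue S α) : τ • α = α := by
  refine root_unique (p := f.map (algebraMap A S)) (x := α) (y := τ • α) (by rw [eval_map_algebraMap]; exact hα) ?_
    (by rw [derivative_map, eval_map_algebraMap]; exact hd) ?_
  · show (f.map (algebraMap A S)).eval (smulAlg A S τ α) = 0
    rw [eval_map_algebraMap, aeval_algHom_apply, hα, map_zero]
  · rw [← residue_eq_zero_iff, map_sub, residue_smul, hτ, sub_self]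

include hS in
/-- Automorphisms fixing the residues of a stage fix the stage. -/
theorem Stage.fixed (st : Stage A S) {τ : ResGal A S} (hτ : τ ∈ resFix st.ring) {x : S} (hx : x ∈ st.ring) :
    τ • x = x := by
  have hle : st.ring ≤ AlgHom.equalizer (smulAlg A S τ) (AlgHom.id A S) :=
    Algebra.adjoin_le (Set.singleton_subset_iff.2 (smul_eq_of_residue st.root st.simple (hτ _ st.root_mem)))
  exact hle hx

include hS in
/-- An ideal generated inside a stage is stable. -/
theorem Stage.stable (st : Stage A S) (Q : Ideal S) (F : Finset S) (hF : Ideal.span (F : Set S) = Q)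
    (hFst : (F : Set S) ⊆ st.ring) {τ : ResGal A S} (hτ : τ ∈ resFix st.ring) {x : S} (hx : x ∈ Q) : τ • x ∈ Q := by
  have h1 : Q ≤ Q.comap (MulSemiringAction.toRingHom _ S τ) := by
    conv_lhs => rw [← hF]
    rw [Ideal.span_le]
    intro a ha
    show τ • a ∈ Q
    rw [st.fixed hτ (hFst ha), ← hF]
    exact Ideal.subset_span ha
  exact h1 hx

include hS in
theorem essEt_of_etale (D : Subalgebra A S) [Module.Finite A D] [Algebra.Etale A D] :
    ∃ _ : IsLocalRing D, EGA4loc.IsEssentiallyEtale A D := by
  haveI := isLocalRing_subalgebra D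
  haveI := isLocalHom_subalgebra D
  haveI : IsLocalHom (algebraMap A D) := ⟨fun a ha => isUnit_of_map_unit (algebraMap A S) a (ha.map (algebraMap D S))⟩
  refine ⟨inferInstance, D, inferInstance, inferInstance, maximalIdeal D, inferInstance, inferInstance, ?_, ⟨?_⟩⟩
  · have h0 : IsLocalHom (algebraMap A D) := inferInstance
    exact ((IsLocalRing.local_hom_TFAE (algebraMap A D)).out 0 4).mp h0
  · exact (IsLocalization.atUnits D (maximalIdeal D).primeCompl fun x hx => by
      by_contra h
      exact hx ((mem_maximalIdeal x).2 h)).restrictScalars A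

include hS in
/-- The part of a fixed subalgebra in a stage is the fixed ring of the stage. -/
theorem inter_stage_fixed_iff [IsNoetherianRing A] (D : Subalgebra A S)
    (hfix : ∀ τ ∈ resFix D, ∀ d ∈ D, τ • d = d) (st : Stage A S) (x : st.ring) :
    x ∈ D.comap st.ring.val ↔ ∀ σ : stageGroup D st, σ • x = x := by
  refine ⟨fun hx => (stageGroup_fixed_iff x).2 fun τ hτ => hfix τ hτ _ hx, fun hx => ?_⟩
  haveI := st.finite_aut
  letI : Fintype (stageGroup D st) := Fintype.ofFinite _
  refine mem_of_fixed (G := stageGroup D st) (B := st.ring) stageGroup_faithful st.maximalIdeal_eq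
    (D.comap st.ring.val) (fun y hy => (stageGroup_fixed_iff y).2 fun τ hτ => hfix τ hτ _ hy) (fun c hc => ?_) x hx
  obtain ⟨d, hd, hde⟩ := exists_residue_of_fixed D (y := residue S (c : S)) fun τ hτ => by
    rw [← residue_smul, (stageGroup_fixed_iff c).1 hc τ hτ]
  obtain ⟨α, f, hf, hfα, hfd, hα, -⟩ := exists_simpleRoot (A := A) (residue S d)
  let B1 : Subalgebra A S := Algebra.adjoin A ({d} : Set S)
  haveI := isIntegral_S (A := A) (S := S)
  haveI : Module.Finite A B1 := Module.Finite.iff_fg.2 (Algebra.IsIntegral.isIntegral (R := A) d).fg_adjoin_singleton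
  haveI := isLocalRing_subalgebra B1
  haveI := isLocalHom_subalgebra B1
  obtain ⟨b, hb, hbd, hbu⟩ := lift_root hf (⟨d, Algebra.self_mem_adjoin_singleton A d⟩ : B1)
    (by rw [residue_aeval, ← hα, ← residue_aeval, hfα, map_zero])
    (by rw [← residue_ne_zero_iff_isUnit, residue_aeval, ← hα, ← residue_aeval, residue_ne_zero_iff_isUnit]; exact hfd)
  obtain ⟨b', hb', hb'c, -⟩ := lift_root hf c
    (by rw [residue_aeval, ← hde, ← hα, ← residue_aeval, hfα, map_zero])
    (by rw [← residue_ne_zero_iff_isUnit, residue_aeval, ← hde, ← hα, ← residue_aeval, residue_ne_zero_iff_isUnit]; exact hfd)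
  have heq : (b' : S) = (b : S) := root_unique (p := f.map (algebraMap A S)) (by rw [eval_map_algebraMap]; exact hb)
    (by rw [eval_map_algebraMap]; exact hb') (by rw [derivative_map, eval_map_algebraMap]; exact hbu)
    (by rw [← residue_eq_zero_iff, map_sub, hb'c, hbd, hde, sub_self])
  refine ⟨b', ?_, ?_⟩
  · show (b' : S) ∈ D
    rw [heq]
    exact Algebra.adjoin_le (Set.singleton_subset_iff.2 hd) b.2
  · rw [mem_maximalIdeal, mem_nonunits_iff]
    intro hu
    refine (residue_ne_zero_iff_isUnit _).2 (hu.map (algebraMap st.ring S)) ?_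
    show residue S ((c : S) - b') = 0
    rw [map_sub, hb'c, sub_self]

include hS in
/-- A fixed subalgebra of a Noetherian strict henselization is Noetherian. -/
theorem isNoetherianRing_of_fix [IsNoetherianRing A] [IsNoetherianRing S] (D : Subalgebra A S)
    (hfix : ∀ τ ∈ resFix D, ∀ d ∈ D, τ • d = d) : IsNoetherianRing D := by
  classical
  refine ⟨fun I => ?_⟩
  have h0 : (Submodule.span S (algebraMap D S '' (I : Set D))).FG := IsNoetherian.noetherian _
  obtain ⟨F, hFI, hF⟩ := (Submodule.fg_span_iff_fg_span_finset_subset _).1 h0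
  choose g hg hgF using fun a : F => hFI a.2
  refine ⟨Finset.univ.image g, le_antisymm (Ideal.span_le.2 fun z hz => ?_) fun x hx => ?_⟩
  · obtain ⟨a, -, rfl⟩ := Finset.mem_image.1 hz
    exact hg a
  have hxF : (x : S) ∈ Submodule.span S (Set.range fun a : F => (a : S)) := by
    rw [Subtype.range_coe_subtype, Finset.setOfPred_mem, ← hF]
    exact Submodule.subset_span ⟨x, hx, rfl⟩
  obtain ⟨c, hc⟩ := (Submodule.mem_span_range_iff_exists_fun S).1 hxF
  obtain ⟨st, hst⟩ := exists_stage A (insert (x : S) (F ∪ Finset.univ.image c))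
  haveI := st.finite_aut
  letI : Fintype (stageGroup D st) := Fintype.ofFinite _
  let C := D.comap st.ring.val
  obtain ⟨r, hr⟩ := exists_retraction (stageGroup_faithful (D := D) (st := st)) C (inter_stage_fixed_iff D hfix st)
  let i : C →+* D := ((st.ring.val.comp C.val).codRestrict D fun z => z.2).toRingHom
  let cB : F → st.ring := fun a => ⟨c a, hst (by simp)⟩
  let gC : F → C := fun a => ⟨⟨a, hst (by simp [a.2])⟩, show (a : S) ∈ D by rw [← hgF a]; exact (g a).2⟩
  let xC : C := ⟨⟨x, hst (by simp)⟩, x.2⟩
  have h1 : (xC : st.ring) = ∑ a, gC a • cB a := by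
    refine Subtype.ext ?_
    rw [AddSubmonoidClass.coe_finsetSum]
    refine hc.symm.trans (Finset.sum_congr rfl fun a _ => ?_)
    exact mul_comm _ _
  have h2 : xC = ∑ a, gC a * r (cB a) := by
    rw [← hr xC, h1, map_sum]
    exact Finset.sum_congr rfl fun a _ => by rw [map_smul, smul_eq_mul]
  rw [show x = i xC from rfl, h2, map_sum]
  refine Submodule.sum_mem _ fun a _ => ?_
  rw [map_mul, show i (gC a) = g a from Subtype.ext (hgF a).symm]
  exact Ideal.mul_mem_right _ _ (Ideal.subset_span (Finset.mem_image_of_mem g (Finset.mem_univ a)))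

end Groth.Agent.GaloisStage
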