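/-
A stage extending given primes and containing the trace of a finitely generated subfield on a branch.
-/
import Mathlib
import Groth.Prelude.Def_EGA4b
import Groth.Agent.GaloisStage.GenFix
import Groth.Agent.GaloisStage.Apply
import Groth.Agent.S0540

set_option autoImplicit false
set_option linter.style.haveILetI false
universe u

open Polynomial IsLocalRing

namespace Groth.Agent.GaloisStage

variable {A S : Type u} [CommRing A] [HenselianLocalRing A] [CommRing S] [IsLocalRing S] [Algebra A S]
  [IsLocalHom (algebraMap A S)] [hS : Hensel.IsStrictHenselization A S]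

include hS in
theorem isNoetherianRing_S [IsNoetherianRing A] : IsNoetherianRing S := (S0540.result A S).1 inferInstance

include hS in
/-- A stage containing a finite set and generators of finitely many ideals extends them. -/
theorem exists_stage_extending [IsNoetherianRing A] (𝒬 : Set (Ideal S)) (h𝒬 : 𝒬.Finite) (F : Finset S) :
    ∃ st : Stage A S, (F : Set S) ⊆ st.ring ∧
      ∀ Q ∈ 𝒬, Q = Ideal.map (algebraMap st.ring S) (Q.comap (algebraMap st.ring S)) := by
  classical
  haveI := isNoetherianRing_S (A := A) (S := S)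
  have hfg : ∀ Q : Ideal S, ∃ G : Finset S, Ideal.span (G : Set S) = Q := fun Q => IsNoetherian.noetherian Q
  choose G hG using hfg
  obtain ⟨st, hst⟩ := exists_stage A (F ∪ h𝒬.toFinset.biUnion G)
  rw [Finset.coe_union, Set.union_subset_iff] at hst
  refine ⟨st, hst.1, fun Q hQ => le_antisymm ?_ Ideal.map_comap_le⟩
  conv_lhs => rw [← hG Q]
  rw [Ideal.span_le]
  intro a ha
  have haB : a ∈ st.ring := hst.2 (Finset.mem_coe.2 (Finset.mem_biUnion.2 ⟨Q, h𝒬.mem_toFinset.2 hQ, ha⟩))
  have haQ : (⟨a, haB⟩ : st.ring) ∈ Q.comap (algebraMap st.ring S) := by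
    show a ∈ Q
    rw [← hG Q]; exact Ideal.subset_span ha
  exact Ideal.mem_map_of_mem (algebraMap st.ring S) haQ

include hS in
theorem etale_stage [IsNoetherianRing A] (st : Stage A S) : Algebra.Etale A st.ring :=
  etale_of_fix st.ring fun _ hτ _ hd => st.fixed hτ hd

include hS in
theorem exists_stage_trace (hA : EGA4.IsExcellent A) (Q : Ideal S) [Q.IsPrime] (𝒬 : Set (Ideal S)) (h𝒬 : 𝒬.Finite)
    (t : Finset (FractionRing (S ⧸ Q))) :
    ∃ st : Stage A S, (∀ Q' ∈ 𝒬, Q' = Ideal.map (algebraMap st.ring S) (Q'.comap (algebraMap st.ring S))) ∧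
      ∀ x : S, algebraMap (S ⧸ Q) (FractionRing (S ⧸ Q)) (Ideal.Quotient.mk Q x) ∈
          Subfield.closure (Set.range (algebraMap A (FractionRing (S ⧸ Q))) ∪ (t : Set (FractionRing (S ⧸ Q)))) →
        ∃ e ∈ st.ring, Ideal.Quotient.mk Q e = Ideal.Quotient.mk Q x := by
  classical
  haveI := hA.1
  let π : S →ₐ[A] S ⧸ Q := Ideal.Quotient.mkₐ A Q
  let D := traceRing (A := A) (W := S ⧸ Q) (FractionRing (S ⧸ Q)) _ (base_mem (FractionRing (S ⧸ Q)) t)
  have hfin : Module.Finite A D := finite_traceRing π (Ideal.Quotient.mkₐ_surjective A Q) (FractionRing (S ⧸ Q)) hA t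
  obtain ⟨gens, hgens⟩ := (Module.Finite.iff_fg (N := Subalgebra.toSubmodule D)).1 hfin
  choose lift hlift using Ideal.Quotient.mk_surjective (I := Q)
  obtain ⟨st, hst, hext⟩ := exists_stage_extending (A := A) 𝒬 h𝒬 (gens.image lift)
  refine ⟨st, hext, fun x hx => ?_⟩
  have h1 : Subalgebra.toSubmodule D ≤ (Subalgebra.toSubmodule st.ring).map π.toLinearMap := by
    rw [← hgens, Submodule.span_le]
    intro w hw
    exact ⟨lift w, hst (Finset.mem_coe.2 (Finset.mem_image_of_mem _ hw)), hlift w⟩
  obtain ⟨e, he, hee⟩ := h1 (show Ideal.Quotient.mk Q x ∈ Subalgebra.toSubmodule D from hx)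
  exact ⟨e, he, hee⟩

end Groth.Agent.GaloisStage
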