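/-
Branches of a strict henselization of a henselian local domain and the residue field of the normalization.
-/
import Mathlib
import Groth.Agent.GaloisStage.ClosedIff
import Groth.Agent.Hensel.EssEtLib
import Groth.Agent.Hensel.LocalPiece
import Groth.Agent.GaloisStage.StageExtend
import Groth.Agent.NagataOne.Dim

set_option autoImplicit false
set_option linter.style.haveILetI false
universe u

open Polynomial IsLocalRing

namespace Groth.Agent.GaloisStage

variable {A S : Type u} [CommRing A] [HenselianLocalRing A] [IsDomain A] [CommRing S] [IsLocalRing S] [Algebra A S]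
  [IsLocalHom (algebraMap A S)] [hS : Hensel.IsStrictHenselization A S] (Q : Ideal S) [Q.IsPrime]

include hS in
theorem injective_branch (hQ : Q ∈ minimalPrimes S) : Function.Injective (algebraMap A (FractionRing (S ⧸ Q))) := by
  haveI := S0539.result A S
  have h1 := Hensel.comap_mem_minimalPrimes_of_flat (R := A) hQ
  rw [IsDomain.minimalPrimes_eq_singleton_bot, Set.mem_singleton_iff] at h1
  rw [injective_iff_map_eq_zero]
  intro a ha
  have h2 : a ∈ Q.comap (algebraMap A S) := by
    rw [IsScalarTower.algebraMap_apply A (S ⧸ Q), map_eq_zero_iff _ (IsFractionRing.injective (S ⧸ Q) _)] at ha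
    exact (Ideal.Quotient.eq_zero_iff_mem (I := Q)).1 ha
  rw [h1] at h2
  exact h2

omit [HenselianLocalRing A] [IsDomain A] [IsLocalRing S] [IsLocalHom (algebraMap A S)] hS in
theorem exists_div_of_mem_branchField_bot {z : FractionRing (S ⧸ Q)} (hz : z ∈ branchField (⊥ : Subalgebra A S) Q) :
    ∃ a b : A, algebraMap A (FractionRing (S ⧸ Q)) b ≠ 0 ∧ z = algebraMap A _ a / algebraMap A _ b := by
  obtain ⟨⟨a, ha⟩, ⟨b, hb⟩, hb0, hab⟩ := exists_div_of_mem_branchField (⊥ : Subalgebra A S) Q hz
  obtain ⟨a, rfl⟩ := Algebra.mem_bot.1 ha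
  obtain ⟨b, rfl⟩ := Algebra.mem_bot.1 hb
  have h : ∀ c : A, algebraMap (⊥ : Subalgebra A S) (FractionRing (S ⧸ Q)) ⟨algebraMap A S c, Algebra.mem_bot.2 ⟨c, rfl⟩⟩ =
      algebraMap A (FractionRing (S ⧸ Q)) c := fun c =>
    (IsScalarTower.algebraMap_apply A (⊥ : Subalgebra A S) (FractionRing (S ⧸ Q)) c).symm
  exact ⟨a, b, by rwa [← h], by rw [hab, h, h]⟩

omit [IsDomain A] in
include hS in
/-- An automorphism fixes the residues of the branch ring exactly when it stabilizes the branch. -/
theorem stable_iff (τ : ResGal A S) :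
    (∀ x ∈ Q, τ • x ∈ Q) ↔ ∀ w : S, algebraMap (S ⧸ Q) (FractionRing (S ⧸ Q)) (Ideal.Quotient.mk Q w) ∈
      branchField (⊥ : Subalgebra A S) Q → τ (residue S w) = residue S w := by
  classical
  refine ⟨fun h w hw => ?_, fun h x hx => ?_⟩
  · obtain ⟨a, b, hb, hab⟩ := exists_div_of_mem_branchField_bot Q hw
    have hφ : ∀ s : A, algebraMap A (FractionRing (S ⧸ Q)) s =
        algebraMap (S ⧸ Q) _ (Ideal.Quotient.mk Q (algebraMap A S s)) := fun s =>
      IsScalarTower.algebraMap_apply A (S ⧸ Q) (FractionRing (S ⧸ Q)) s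
    have h3 : w * algebraMap A S b - algebraMap A S a ∈ Q := by
      rw [← Ideal.Quotient.eq_zero_iff_mem, ← map_eq_zero_iff _ (IsFractionRing.injective (S ⧸ Q) (FractionRing (S ⧸ Q))),
        map_sub, map_mul, map_sub, map_mul, hab, ← hφ, ← hφ, sub_eq_zero]
      exact div_mul_cancel₀ _ hb
    have h4 := h _ h3
    rw [smul_sub, smul_mul', smul_base, smul_base] at h4
    have h5 : (τ • w - w) * algebraMap A S b ∈ Q := by
      rw [show (τ • w - w) * algebraMap A S b = ((τ • w) * algebraMap A S b - algebraMap A S a) -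
        (w * algebraMap A S b - algebraMap A S a) by ring]
      exact sub_mem h4 h3
    rcases Ideal.IsPrime.mem_or_mem ‹_› h5 with h6 | h6
    · rw [← residue_smul, ← sub_eq_zero, ← map_sub, residue_eq_zero_iff]
      exact IsLocalRing.le_maximalIdeal (Ideal.IsPrime.ne_top ‹_›) h6
    · refine absurd ?_ hb
      rw [hφ, Ideal.Quotient.eq_zero_iff_mem.2 h6, map_zero]
  · obtain ⟨st, hst⟩ := exists_stage A ({x} : Finset S)
    exact (exists_match_stage (⊥ : Subalgebra A S) Q τ h st x (hst (by simp))).1 hx

variable [IsLocalRing (integralClosure A (FractionRing A))]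
  [IsLocalHom (algebraMap A (integralClosure A (FractionRing A)))]

include hS in
/-- The branch ring maps onto the separable part of the residue field of the normalization. -/
theorem exists_branch_normalization (hQ : Q ∈ minimalPrimes S) :
    ∃ χ : branchRing (⊥ : Subalgebra A S) Q →+* ResidueField (integralClosure A (FractionRing A)),
      (∀ a : A, χ (algebraMap A _ a) = algebraMap (ResidueField A) _ (residue A a)) ∧
      (∀ w, χ w = 0 ↔ quotRes Q w = 0) ∧
      ∀ z ∈ separableClosure (ResidueField A) (ResidueField (integralClosure A (FractionRing A))), ∃ w, χ w = z := by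
  classical
  let K := FractionRing (S ⧸ Q)
  let A' := integralClosure A (FractionRing A)
  let R := branchRing (⊥ : Subalgebra A S) Q
  have hinj := injective_branch (A := A) Q hQ
  let φ : FractionRing A →+* K := IsFractionRing.lift hinj
  have hφA : ∀ a : A, φ (algebraMap A _ a) = algebraMap A K a := IsFractionRing.lift_algebraMap hinj
  haveI := isIntegral_branchRing (⊥ : Subalgebra A S) Q
  let φA : FractionRing A →ₐ[A] K := { φ with commutes' := hφA }
  have hdiv : ∀ a b : A, φ (algebraMap A _ a / algebraMap A _ b) = algebraMap A K a / algebraMap A K b := fun a b => by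
    rw [map_div₀, hφA, hφA]
  have hlift : ∀ w : R, ∃ x : A', φ (x : FractionRing A) = algebraMap (S ⧸ Q) K (w : S ⧸ Q) := fun w => by
    obtain ⟨a, b, hb, hab⟩ := exists_div_of_mem_branchField_bot Q w.2
    have hint : IsIntegral A (algebraMap (S ⧸ Q) K (w : S ⧸ Q)) :=
      ((Algebra.IsIntegral.isIntegral (R := A) w).map R.val).map (IsScalarTower.toAlgHom A (S ⧸ Q) _)
    rw [hab, ← hdiv] at hint
    exact ⟨⟨_, (isIntegral_algHom_iff φA φ.injective).1 hint⟩, by rw [hab, ← hdiv]⟩
  choose lift hlift using hlift
  let ι : R →+* A' :=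
    { toFun := lift
      map_one' := Subtype.ext (φ.injective (by rw [hlift, OneMemClass.coe_one, OneMemClass.coe_one, map_one, map_one]))
      map_mul' := fun x y => Subtype.ext (φ.injective (by
        rw [hlift, MulMemClass.coe_mul, MulMemClass.coe_mul, map_mul, map_mul, hlift, hlift]))
      map_zero' := Subtype.ext (φ.injective (by rw [hlift, ZeroMemClass.coe_zero, ZeroMemClass.coe_zero, map_zero, map_zero]))
      map_add' := fun x y => Subtype.ext (φ.injective (by
        rw [hlift, AddMemClass.coe_add, AddMemClass.coe_add, map_add, map_add, hlift, hlift])) }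
  have hιA : ∀ a : A, ι (algebraMap A R a) = algebraMap A A' a := fun a => Subtype.ext (φ.injective (by
    show φ (lift (algebraMap A R a)) = φ _
    rw [hlift]
    exact ((hφA a).trans (IsScalarTower.algebraMap_apply A (S ⧸ Q) K a)).symm))
  let χ : R →+* ResidueField A' := (residue A').comp ι
  have hχA : ∀ a : A, χ (algebraMap A R a) = algebraMap (ResidueField A) (ResidueField A') (residue A a) := fun a => by
    show residue A' (ι (algebraMap A R a)) = _
    rw [hιA]; rfl
  haveI : IsLocalHom (algebraMap R (S ⧸ Q)) := ⟨isUnit_branchRing _ Q⟩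
  haveI : IsLocalRing (S ⧸ Q) := IsLocalRing.of_surjective' (Ideal.Quotient.mk Q) Ideal.Quotient.mk_surjective
  haveI : IsLocalRing R := RingHom.domain_isLocalRing (algebraMap R (S ⧸ Q))
  have hker : RingHom.ker χ = maximalIdeal R := by
    haveI : (RingHom.ker χ).IsPrime := RingHom.ker_isPrime χ
    have h2 : (RingHom.ker χ).comap (algebraMap A R) = maximalIdeal A := by
      refine le_antisymm (IsLocalRing.le_maximalIdeal (Ideal.IsPrime.ne_top (Ideal.IsPrime.comap _))) fun a ha => ?_
      show χ (algebraMap A R a) = 0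
      rw [hχA, (residue_eq_zero_iff a).2 ha, map_zero]
    exact IsLocalRing.eq_maximalIdeal (Ideal.isMaximal_of_isIntegral_of_isMaximal_comap (R := A) _
      (h2 ▸ maximalIdeal.isMaximal A))
  have hz0 : ∀ w, χ w = 0 ↔ quotRes Q w = 0 := fun w => by
    rw [← RingHom.mem_ker, hker, mem_maximalIdeal, mem_nonunits_iff, quotRes_eq_zero_iff]
    exact ⟨fun h hu => h (isUnit_branchRing _ Q w hu), fun h hu => h (hu.map R.val)⟩
  refine ⟨χ, hχA, hz0, fun z hz => ?_⟩
  obtain ⟨x, rfl⟩ := residue_surjective z
  have hsep := mem_separableClosure_iff.1 hz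
  obtain ⟨g, hgm, -, hg⟩ := lifts_and_degree_eq_and_monic (f := residue A) (p := minpoly (ResidueField A) (residue A' x))
    (by rw [mem_lifts]; exact Polynomial.map_surjective _ residue_surjective _) (minpoly.monic hsep.isIntegral)
  haveI : Algebra.IsIntegral A A' := inferInstance
  haveI : HenselianLocalRing A' := Hensel.henselianLocalRing_finite A A'
  have hev : ∀ p : A[X], residue A' ((p.map (algebraMap A A')).eval x) =
      aeval (residue A' x) (p.map (residue A)) := fun p => by
    rw [eval_map, hom_eval₂, aeval_def, eval₂_map]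
    rfl
  obtain ⟨y, hy, hyx⟩ := HenselianLocalRing.is_henselian (g.map (algebraMap A A')) (hg.map _) x
    (by rw [← residue_eq_zero_iff, hev, hgm, minpoly.aeval])
    (by
      rw [derivative_map, ← residue_ne_zero_iff_isUnit, hev, ← derivative_map, hgm]
      exact hsep.aeval_derivative_ne_zero (minpoly.aeval _ _))
  haveI := hS.henselian
  haveI := hS.isSepClosure.1
  obtain ⟨Rt, hRt, -, -⟩ := exists_prod_roots (g := g.map (algebraMap A S)) (hg.map _) (by
    rw [Polynomial.map_map, show (residue S).comp (algebraMap A S) =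
      (algebraMap (ResidueField A) (ResidueField S)).comp (residue A) from rfl, ← Polynomial.map_map, hgm]
    exact Separable.map hsep)
  let π : S →+* K := (algebraMap (S ⧸ Q) K).comp (Ideal.Quotient.mk Q)
  have hπA : π.comp (algebraMap A S) = algebraMap A K := rfl
  have hgy : ((g.map (algebraMap A S)).map π).eval (φ (y : FractionRing A)) = 0 := by
    have h1 := congrArg (fun v : A' => φ (v : FractionRing A)) hy
    rw [Polynomial.map_map, hπA, eval_map]
    have h2 : g.eval₂ (algebraMap A K) (φA (A'.val y)) = φA (A'.val (aeval y g)) := by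
      rw [← aeval_def, aeval_algHom_apply, aeval_algHom_apply]
    rw [show φ (y : FractionRing A) = φA (A'.val y) from rfl, h2, show aeval y g = (g.map (algebraMap A A')).eval y from
      (eval_map_algebraMap _ _).symm, show (g.map (algebraMap A A')).eval y = 0 from hy, map_zero, map_zero]
  rw [hRt, Polynomial.map_prod, eval_prod, Finset.prod_eq_zero_iff] at hgy
  obtain ⟨r, -, hr⟩ := hgy
  rw [Polynomial.map_sub, map_X, map_C, eval_sub, eval_X, eval_C, sub_eq_zero] at hr
  have hmem : Ideal.Quotient.mk Q r ∈ R := by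
    rw [mem_branchRing, show algebraMap (S ⧸ Q) K (Ideal.Quotient.mk Q r) = φ (y : FractionRing A) from hr.symm]
    obtain ⟨a, b, -, hab⟩ := IsFractionRing.div_surjective A (y : FractionRing A)
    rw [← hab, hdiv]
    exact div_mem (base_mem_branchField _ Q a) (base_mem_branchField _ Q b)
  refine ⟨⟨_, hmem⟩, ?_⟩
  show residue A' (lift ⟨_, hmem⟩) = residue A' x
  rw [show lift ⟨_, hmem⟩ = y from Subtype.ext (φ.injective ((hlift _).trans hr.symm))]
  rw [← sub_eq_zero, ← map_sub, residue_eq_zero_iff]
  exact hyx

/-- Count of embeddings landing in an intermediate extension. -/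
theorem natCard_eq_iff {k F E Ω : Type u} [Field k] [Field F] [Field E] [Field Ω] [Algebra k F] [Algebra k E]
    [Algebra k Ω] [IsSepClosed Ω] [Algebra.IsSeparable k F] [FiniteDimensional k F] (g : E →ₐ[k] Ω) :
    Nat.card (F →ₐ[k] E) = Module.finrank k F ↔ ∀ φ : F →ₐ[k] Ω, ∀ z, φ z ∈ g.range := by
  classical
  have hn : Nat.card (F →ₐ[k] Ω) = Module.finrank k F := AlgHom.natCard_of_splits k F Ω fun x =>
    IsSepClosed.splits_codomain (f := algebraMap k Ω) _ (Algebra.IsSeparable.isSeparable k x)
  have hinj : Function.Injective fun ψ : F →ₐ[k] E => g.comp ψ := fun a b h =>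
    AlgHom.ext fun x => g.injective (AlgHom.congr_fun h x)
  rw [← hn]
  constructor
  · intro h φ z
    have hb : Function.Bijective fun ψ : F →ₐ[k] E => g.comp ψ := by
      haveI : Finite (F →ₐ[k] E) := Finite.of_injective _ hinj
      refine ⟨hinj, ?_⟩
      haveI := Fintype.ofFinite (F →ₐ[k] E)
      haveI := Fintype.ofFinite (F →ₐ[k] Ω)
      exact ((Fintype.bijective_iff_injective_and_card _).2
        ⟨hinj, by rw [Fintype.card_eq_nat_card, Fintype.card_eq_nat_card, h]⟩).2
    obtain ⟨ψ, rfl⟩ := hb.2 φ
    exact ⟨ψ z, rfl⟩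
  · intro h
    refine Nat.card_eq_of_bijective (fun ψ : F →ₐ[k] E => g.comp ψ) ⟨hinj, fun φ => ?_⟩
    let e := AlgEquiv.ofInjectiveField g
    exact ⟨e.symm.toAlgHom.comp (φ.codRestrict g.range (h φ)), AlgHom.ext fun z =>
      congrArg Subtype.val (e.apply_symm_apply ⟨φ z, h φ z⟩)⟩

theorem fixedBy_conj_iff {k Ω : Type u} [Field k] [Field Ω] [Algebra k Ω] (τ σ : Ω ≃ₐ[k] Ω) (x : Ω) :
    (τ⁻¹ * σ * τ) x = x ↔ σ (τ x) = τ x := by
  rw [AlgEquiv.mul_apply, AlgEquiv.mul_apply]
  exact τ.symm_apply_eq

include hS in
/-- The embedding of the separable part of the normalization residue field attached to a branch. -/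
theorem exists_embedding (hQ : Q ∈ minimalPrimes S) :
    ∃ j : separableClosure (ResidueField A) (ResidueField (integralClosure A (FractionRing A))) →ₐ[ResidueField A]
        ResidueField S,
      ∀ τ : ResGal A S, (∀ x ∈ Q, τ • x ∈ Q) ↔ ∀ z, τ (j z) = j z := by
  classical
  obtain ⟨χ, hχA, hz0, hsurj⟩ := exists_branch_normalization (A := A) Q hQ
  let R := branchRing (⊥ : Subalgebra A S) Q
  let r : R →+* ResidueField S := (quotRes Q).comp R.val.toRingHom
  choose w hw using fun z : separableClosure (ResidueField A) (ResidueField (integralClosure A (FractionRing A))) =>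
    hsurj z z.2
  have hwd : ∀ x y : R, χ x = χ y → r x = r y := fun x y h => by
    rw [← sub_eq_zero, ← map_sub] at h
    rw [← sub_eq_zero, ← map_sub]
    exact (hz0 _).1 h
  let j : separableClosure (ResidueField A) (ResidueField (integralClosure A (FractionRing A))) →ₐ[ResidueField A]
      ResidueField S :=
    { toFun := fun z => r (w z)
      map_one' := (hwd _ 1 (by rw [hw, map_one]; rfl)).trans (map_one r)
      map_mul' := fun x y => (hwd _ (w x * w y) (by rw [hw, map_mul, hw, hw]; rfl)).trans (map_mul r _ _)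
      map_zero' := (hwd _ 0 (by rw [hw, map_zero]; rfl)).trans (map_zero r)
      map_add' := fun x y => (hwd _ (w x + w y) (by rw [hw, map_add, hw, hw]; rfl)).trans (map_add r _ _)
      commutes' := fun c => by
        obtain ⟨a, rfl⟩ := residue_surjective c
        exact (hwd _ (algebraMap A R a) (by rw [hw, hχA]; rfl)).trans rfl }
  refine ⟨j, fun τ => (stable_iff (A := A) Q τ).trans ⟨fun h z => ?_, fun h v hv => ?_⟩⟩
  · obtain ⟨s, hs⟩ := Ideal.Quotient.mk_surjective ((w z : R) : S ⧸ Q)
    have hmem : algebraMap (S ⧸ Q) (FractionRing (S ⧸ Q)) (Ideal.Quotient.mk Q s) ∈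
        branchField (⊥ : Subalgebra A S) Q := by rw [hs]; exact (w z).2
    show τ (quotRes Q ((w z : R) : S ⧸ Q)) = quotRes Q ((w z : R) : S ⧸ Q)
    rw [← hs]
    exact h s hmem
  · let x : R := ⟨Ideal.Quotient.mk Q v, hv⟩
    haveI := hS.isSepClosure
    have hmemsep : χ x ∈ separableClosure (ResidueField A) (ResidueField (integralClosure A (FractionRing A))) := by
      let p := minpoly (ResidueField A) (residue S v)
      have hp : p.Separable := Algebra.IsSeparable.isSeparable (ResidueField A) (residue S v)
      obtain ⟨g, hgm, -⟩ := lifts_and_degree_eq_and_monic (f := residue A) (p := p)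
        (by rw [mem_lifts]; exact Polynomial.map_surjective _ residue_surjective _)
        (minpoly.monic (Algebra.IsSeparable.isIntegral _ _))
      have h1 : r (g.eval₂ (algebraMap A R) x) = 0 := by
        rw [hom_eval₂, show r.comp (algebraMap A R) = (algebraMap (ResidueField A) (ResidueField S)).comp (residue A)
          from RingHom.ext fun a => rfl, ← eval₂_map, hgm]
        exact minpoly.aeval _ _
      have h2 := (hz0 _).2 h1
      rw [hom_eval₂, show χ.comp (algebraMap A R) = (algebraMap (ResidueField A)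
          (ResidueField (integralClosure A (FractionRing A)))).comp (residue A) from RingHom.ext fun a => hχA a,
        ← eval₂_map, hgm] at h2
      exact mem_separableClosure_iff.2 (hp.of_dvd (minpoly.dvd _ _ h2))
    have := h ⟨χ x, hmemsep⟩
    rw [show j ⟨χ x, hmemsep⟩ = residue S v from (hwd _ x (hw _)).trans rfl] at this
    exact this

omit [IsLocalRing (integralClosure A (FractionRing A))]
  [IsLocalHom (algebraMap A (integralClosure A (FractionRing A)))] [IsDomain A] in
include hS in
/-- An essentially étale local algebra mapping to the strict henselization has finite unramified image. -/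
theorem image_finite_unramified (E : Type u) [CommRing E] [IsLocalRing E] [Algebra A E] [IsLocalHom (algebraMap A E)]
    (hE : EGA4loc.IsEssentiallyEtale A E) (ψ : E →ₐ[A] S) :
    Module.Finite A ψ.range ∧ Algebra.FormallyUnramified A ψ.range := by
  obtain ⟨hu, -⟩ := Hensel.essEt_unramified hE
  obtain ⟨C, _, _, q, _, hC, hq, ⟨e⟩⟩ := hE
  haveI := hC
  haveI : q.LiesOver (maximalIdeal A) := ⟨hq.symm⟩
  haveI := Hensel.finite_atPrime A C q
  haveI : Module.Finite A E := Module.Finite.equiv e.symm.toLinearEquiv
  haveI := hu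
  exact ⟨Module.Finite.of_surjective ψ.rangeRestrict.toLinearMap ψ.rangeRestrict_surjective,
    Algebra.FormallyUnramified.of_surjective ψ.rangeRestrict ψ.rangeRestrict_surjective⟩

include hS in
/-- The splitting criterion. -/
theorem extended_iff_natCard (hA : EGA4.IsExcellent A) (E : Type u) [CommRing E] [IsLocalRing E] [Algebra A E]
    [IsLocalHom (algebraMap A E)] (hE : EGA4loc.IsEssentiallyEtale A E) [Algebra E S] [IsScalarTower A E S] :
    (∀ Q ∈ minimalPrimes S, Q = Ideal.map (algebraMap E S) (Q.comap (algebraMap E S))) ↔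
      Nat.card (separableClosure (ResidueField A) (ResidueField (integralClosure A (FractionRing A))) →ₐ[ResidueField A]
          ResidueField E) =
        Module.finrank (ResidueField A)
          (separableClosure (ResidueField A) (ResidueField (integralClosure A (FractionRing A)))) := by
  classical
  haveI := hA.1
  haveI := hS.isSepClosure
  haveI := hS.isSepClosure.1
  haveI : IsReduced S := (S2747.result A S).2 inferInstance
  haveI := isNoetherianRing_S (A := A) (S := S)
  haveI : Module.Finite A (integralClosure A (FractionRing A)) := by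
    have hN : CAlg.IsNagata A := S2654.result A ⟨hA.1, hA.2.2.1, hA.2.2.2⟩
    exact NagataOne.finite_integralClosure A hN
  let ψ : E →ₐ[A] S := IsScalarTower.toAlgHom A E S
  haveI : IsLocalHom ψ.toRingHom := Hensel.essEt_hom_local hE ψ
  haveI : IsLocalHom (algebraMap E S) := ‹IsLocalHom ψ.toRingHom›
  obtain ⟨hfin, hunr⟩ := image_finite_unramified E hE ψ
  let D := ψ.range
  let g : ResidueField E →ₐ[ResidueField A] ResidueField S :=
    { ResidueField.map (algebraMap E S) with
      commutes' := fun c => by
        obtain ⟨a, rfl⟩ := residue_surjective c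
        exact congrArg (residue S) (ψ.commutes a) }
  have hgD : ∀ y, y ∈ g.range ↔ ∀ τ ∈ resFix D, τ y = y := fun y => by
    refine ⟨?_, fun h => ?_⟩
    · rintro ⟨c, rfl⟩ τ hτ
      obtain ⟨e, rfl⟩ := residue_surjective c
      exact hτ _ ⟨e, rfl⟩
    · obtain ⟨_, ⟨e, rfl⟩, hd⟩ := exists_residue_of_fixed D h
      exact ⟨residue E e, hd⟩
  have hfix : ∀ τ ∈ resFix D, ∀ d ∈ D, τ • d = d := fun τ hτ d hd => fix_of_unramified D hτ hd
  have hmap : ∀ Q : Ideal S, Ideal.map (algebraMap E S) (Q.comap (algebraMap E S)) =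
      Ideal.map (algebraMap D S) (Q.comap (algebraMap D S)) := fun Q => by
    have h1 : algebraMap E S = (algebraMap D S).comp ψ.rangeRestrict.toRingHom := rfl
    rw [h1, ← Ideal.comap_comap, ← Ideal.map_map,
      Ideal.map_comap_of_surjective ψ.rangeRestrict.toRingHom ψ.rangeRestrict_surjective]
  have hstab : (∀ Q ∈ minimalPrimes S, Q = Ideal.map (algebraMap E S) (Q.comap (algebraMap E S))) ↔
      ∀ Q ∈ minimalPrimes S, ∀ τ ∈ resFix D, ∀ x ∈ Q, τ • x ∈ Q := by
    refine ⟨fun h Q hQ τ hτ x hx => ?_, fun h Q hQ => (hmap Q).symm ▸ extended_of_stable D hfix Q (h Q hQ)⟩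
    have h1 : Ideal.map (algebraMap D S) (Q.comap (algebraMap D S)) ≤ Q.comap (MulSemiringAction.toRingHom _ S τ) :=
      Ideal.map_le_iff_le_comap.2 fun d hd => by
        show τ • (d : S) ∈ Q
        rw [hfix τ hτ _ d.2]
        exact hd
    exact h1 (hmap Q ▸ h Q hQ ▸ hx)
  haveI : FiniteDimensional (ResidueField A) (ResidueField (integralClosure A (FractionRing A))) := inferInstance
  rw [hstab, natCard_eq_iff g]
  constructor
  · intro h φ z
    obtain ⟨Q, hQ⟩ : (minimalPrimes S).Nonempty := by
      obtain ⟨Q, hQ, -⟩ := Ideal.exists_minimalPrimes_le (show (⊥ : Ideal S) ≤ maximalIdeal S from bot_le)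
      exact ⟨Q, hQ⟩
    haveI := hQ.isPrime
    obtain ⟨j, hj⟩ := exists_embedding (A := A) Q hQ
    let F := separableClosure (ResidueField A) (ResidueField (integralClosure A (FractionRing A)))
    obtain ⟨τ, hτ⟩ : ∃ τ : ResGal A S, ∀ z : F, τ (j z) = φ z := by
      let e := AlgEquiv.ofInjectiveField j
      let φ' : j.range →ₐ[ResidueField A] ResidueField S := φ.comp e.symm.toAlgHom
      let L : IntermediateField (ResidueField A) (ResidueField S) := j.fieldRange
      haveI : Normal (ResidueField A) (ResidueField S) := (inferInstance : IsGalois _ _).to_normal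
      let φL : L →ₐ[ResidueField A] ResidueField S := φ'
      refine ⟨AlgEquiv.ofBijective (φL.liftNormal (ResidueField S)) (AlgHom.normal_bijective _ _ _ _), fun z => ?_⟩
      show φL.liftNormal (ResidueField S) (algebraMap L (ResidueField S) ⟨j z, z, rfl⟩) = φ z
      rw [AlgHom.liftNormal_commutes]
      exact congrArg φ (e.symm_apply_apply z)
    refine (hgD _).2 fun σ hσ => ?_
    rw [← hτ, ← fixedBy_conj_iff]
    refine (hj _).1 (fun x hx => ?_) z
    have hτQ : ∀ v, v ∈ Q.comap (MulSemiringAction.toRingHom _ S τ⁻¹) ↔ τ⁻¹ • v ∈ Q := fun v => Iff.rfl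
    have hmin : Q.comap (MulSemiringAction.toRingHom _ S τ⁻¹) ∈ minimalPrimes S := by
      have := Ideal.IsPrime.comap (K := Q) (MulSemiringAction.toRingHom _ S τ⁻¹)
      refine ⟨⟨this, bot_le⟩, fun P hP hle v hv => ?_⟩
      haveI := hP.1
      have h2 : P.comap (MulSemiringAction.toRingHom _ S τ) ≤ Q := fun u hu => by
        have := hle hu
        rw [Ideal.mem_comap, MulSemiringAction.toRingHom_apply, MulSemiringAction.toRingHom_apply,
          inv_smul_smul] at this
        exact this
      have h3 := hQ.2 ⟨Ideal.IsPrime.comap _, bot_le⟩ h2 ((hτQ v).1 hv)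
      rw [Ideal.mem_comap, MulSemiringAction.toRingHom_apply, smul_inv_smul] at h3
      exact h3
    have h4 := h _ hmin σ hσ (τ • x) ((hτQ _).2 (by rwa [inv_smul_smul]))
    rw [mul_smul, mul_smul]
    exact (hτQ _).1 h4
  · intro h Q hQ τ hτ
    haveI := hQ.isPrime
    obtain ⟨j, hj⟩ := exists_embedding (A := A) Q hQ
    exact (hj τ).2 fun z => (hgD _).1 (h j z) τ hτ

end Groth.Agent.GaloisStage
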