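/-
Eakin–Nagata theorem: a subring over which a Noetherian ring is finite is Noetherian (Formanek's argument).
-/
import Mathlib

set_option autoImplicit false
set_option linter.style.haveILetI false
universe u

namespace Groth.Agent.GaloisStage

variable {R : Type u} [CommRing R]

/-- A finite module all whose proper scalar quotients are Noetherian is Noetherian. -/
theorem isNoetherian_of_forall_smul {M : Type u} [AddCommGroup M] [Module R M] [Module.Finite R M]
    (h : ∀ r : R, (∃ m : M, r • m ≠ 0) →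
      IsNoetherian R (M ⧸ LinearMap.range (LinearMap.lsmul R M r))) : IsNoetherian R M := by
  classical
  obtain ⟨n, g, hg⟩ := Module.Finite.exists_fin (R := R) (M := M)
  by_cases htriv : ∀ m : M, m = 0
  · haveI : Subsingleton M := ⟨fun a b => by rw [htriv a, htriv b]⟩
    infer_instance
  let 𝒩 : Set (Submodule R M) := {N | ∀ r : R, (∀ i, r • g i ∈ N) → ∀ i, r • g i = 0}
  have hbot : (⊥ : Submodule R M) ∈ 𝒩 := fun r hr i => (Submodule.mem_bot R).1 (hr i)
  obtain ⟨N, -, hN⟩ := zorn_le_nonempty₀ 𝒩 (fun c hc hchain N₁ hN₁ => ⟨sSup c, fun r hr i => by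
      have hdir : DirectedOn (· ≤ ·) c := hchain.directedOn
      haveI : Nonempty c := ⟨⟨N₁, hN₁⟩⟩
      have h1 : ∀ j, ∃ N' ∈ c, r • g j ∈ N' := fun j => (Submodule.mem_sSup_of_directed ⟨N₁, hN₁⟩ hdir).1 (hr j)
      choose P hP hPm using h1
      obtain ⟨z, hz⟩ := (directedOn_iff_directed.1 hdir).finset_le
        (Finset.univ.image fun j => (⟨P j, hP j⟩ : c))
      obtain ⟨N', hN', hle⟩ : ∃ N' ∈ c, ∀ j ∈ (Finset.univ : Finset (Fin n)), P j ≤ N' :=
        ⟨z, z.2, fun j hj => hz ⟨P j, hP j⟩ (Finset.mem_image_of_mem (fun j => (⟨P j, hP j⟩ : c)) hj)⟩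
      exact hc hN' r (fun j => hle j (Finset.mem_univ j) (hPm j)) i,
    fun z hz => le_sSup hz⟩) ⊥ hbot
  have hfg : ∀ P : Submodule R M, N < P → P.FG := fun P hP => by
    have h1 : P ∉ 𝒩 := fun hP' => hP.not_ge (hN.2 hP' hP.le)
    obtain ⟨r, hr, i, hi⟩ : ∃ r, (∀ i, r • g i ∈ P) ∧ ∃ i, r • g i ≠ 0 := by
      by_contra hne
      push Not at hne
      exact h1 hne
    haveI := h r ⟨g i, hi⟩
    let L := LinearMap.range (LinearMap.lsmul R M r)
    have hL : L ≤ P := by
      show LinearMap.range (LinearMap.lsmul R M r) ≤ P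
      rw [LinearMap.range_eq_map, ← hg, Submodule.map_span_le]
      rintro _ ⟨j, rfl⟩
      exact hr j
    have hLfg : L.FG := by
      rw [show L = Submodule.map (LinearMap.lsmul R M r) ⊤ from LinearMap.range_eq_map _]
      exact Module.Finite.fg_top.map _
    refine Submodule.fg_of_fg_map_of_fg_inf_ker L.mkQ (IsNoetherian.noetherian _) ?_
    rw [Submodule.ker_mkQ, inf_eq_right.2 hL]
    exact hLfg
  haveI : IsNoetherian R (M ⧸ N) := ⟨fun P => by
    by_cases hP : P = ⊥
    · rw [hP]; exact Submodule.fg_bot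
    have h1 : N < P.comap N.mkQ := lt_of_le_of_ne (Submodule.le_comap_mkQ N P) fun h2 => hP (by
      rw [← Submodule.map_comap_eq_of_surjective N.mkQ_surjective P, ← h2, Submodule.mkQ_map_self])
    rw [← Submodule.map_comap_eq_of_surjective N.mkQ_surjective P]
    exact (hfg _ h1).map _⟩
  let φ : R →ₗ[R] Fin n → M ⧸ N := LinearMap.pi fun i => LinearMap.toSpanSingleton R _ (N.mkQ (g i))
  let ψ : R →ₗ[R] Fin n → M := LinearMap.pi fun i => LinearMap.toSpanSingleton R _ (g i)
  have hker : LinearMap.ker φ ≤ LinearMap.ker ψ := fun r hr => by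
    rw [LinearMap.mem_ker] at hr ⊢
    funext i
    refine hN.1 r (fun j => ?_) i
    have := congrFun hr j
    simp only [φ, LinearMap.pi_apply, LinearMap.toSpanSingleton_apply, Pi.zero_apply, ← map_smul] at this
    exact (Submodule.Quotient.mk_eq_zero N).1 this
  haveI : IsNoetherian R (R ⧸ LinearMap.ker φ) :=
    isNoetherian_of_injective ((LinearMap.ker φ).liftQ φ le_rfl) (LinearMap.ker_eq_bot.1 (Submodule.ker_liftQ_eq_bot _ _ _ le_rfl))
  let π : (Fin n → R ⧸ LinearMap.ker φ) →ₗ[R] M :=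
    ∑ i, ((LinearMap.ker φ).liftQ (LinearMap.toSpanSingleton R M (g i))
      (fun r hr => congrFun (LinearMap.mem_ker.1 (hker hr)) i)).comp (LinearMap.proj i)
  refine isNoetherian_of_surjective π ?_
  rw [eq_top_iff, ← hg, Submodule.span_le]
  rintro _ ⟨i, rfl⟩
  refine ⟨Pi.single i (Submodule.Quotient.mk 1), ?_⟩
  simp [π, LinearMap.sum_apply, Pi.single_apply, apply_ite, Finset.sum_ite_eq']
  exact one_smul R (g i)

/-- Eakin–Nagata. -/
theorem isNoetherianRing_of_finite_extension (R T : Type u) [CommRing R] [CommRing T] [Algebra R T]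
    [FaithfulSMul R T] [IsNoetherianRing T] [Module.Finite R T] : IsNoetherianRing R := by
  have key : ∀ J : Ideal T, IsNoetherian R (T ⧸ J) := by
    refine IsNoetherian.induction fun J hJ => ?_
    refine isNoetherian_of_forall_smul fun r hr => ?_
    obtain ⟨m, hm⟩ := hr
    have hlt : J < J ⊔ Ideal.span {algebraMap R T r} := by
      refine lt_of_le_of_ne le_sup_left fun h => hm ?_
      obtain ⟨t, rfl⟩ := Ideal.Quotient.mk_surjective m
      have h1 : algebraMap R T r ∈ J := h.symm ▸ Ideal.mem_sup_right (Ideal.mem_span_singleton_self _)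
      rw [show r • Ideal.Quotient.mk J t = Ideal.Quotient.mk J (r • t) from rfl, Algebra.smul_def]
      exact Ideal.Quotient.eq_zero_iff_mem.2 (Ideal.mul_mem_right _ _ h1)
    haveI := hJ _ hlt
    let q : (T ⧸ (J ⊔ Ideal.span {algebraMap R T r})) →ₗ[R]
        ((T ⧸ J) ⧸ LinearMap.range (LinearMap.lsmul R (T ⧸ J) r)) :=
      Submodule.liftQ ((J ⊔ Ideal.span {algebraMap R T r}).restrictScalars R)
        ((Submodule.mkQ _).comp ((Ideal.Quotient.mkₐ R J).toLinearMap)) (fun t ht => by
          obtain ⟨a, ha, b, hb, rfl⟩ := Submodule.mem_sup.1 ht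
          obtain ⟨c, rfl⟩ := Ideal.mem_span_singleton'.1 hb
          rw [LinearMap.mem_ker, LinearMap.comp_apply, Submodule.mkQ_apply, Submodule.Quotient.mk_eq_zero]
          refine ⟨Ideal.Quotient.mk J c, ?_⟩
          show r • Ideal.Quotient.mk J c = Ideal.Quotient.mk J (a + c * algebraMap R T r)
          rw [map_add, Ideal.Quotient.eq_zero_iff_mem.2 ha, zero_add,
            show r • Ideal.Quotient.mk J c = Ideal.Quotient.mk J (r • c) from rfl, Algebra.smul_def, mul_comm])
    refine isNoetherian_of_surjective q (LinearMap.range_eq_top.2 fun z => ?_)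
    obtain ⟨w, rfl⟩ := Submodule.mkQ_surjective _ z
    obtain ⟨t, rfl⟩ := Ideal.Quotient.mk_surjective w
    exact ⟨Submodule.Quotient.mk t, rfl⟩
  haveI := key ⊥
  refine isNoetherian_of_injective ((Ideal.Quotient.mkₐ R (⊥ : Ideal T)).toLinearMap.comp (Algebra.linearMap R T)) ?_
  intro a b h
  refine FaithfulSMul.algebraMap_injective R T ?_
  have := Ideal.Quotient.eq.1 h
  exact sub_eq_zero.1 (Ideal.mem_bot.1 this)

end Groth.Agent.GaloisStage
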