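/-
Stages over a henselian domain with domain strict henselization are free, and their fixed rings are étale.
-/
import Mathlib
import Groth.Agent.GaloisStage.Apply
import Groth.Agent.S0539
import Groth.Prelude.Def_EssEt

set_option autoImplicit false
set_option linter.style.haveILetI false
universe u

open Polynomial IsLocalRing

namespace Groth.Agent.GaloisStage

variable {A S : Type u} [CommRing A] [HenselianLocalRing A] [IsDomain A] [CommRing S] [IsLocalRing S] [IsDomain S]
  [Algebra A S] [IsLocalHom (algebraMap A S)] [hS : Hensel.IsStrictHenselization A S]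

include hS in
theorem free_stage (st : Stage A S) : Module.Free A st.ring := by
  classical
  let K := FractionRing S
  haveI := S0539.result A S
  haveI : FaithfulSMul A S := inferInstance
  have hAS : Function.Injective (algebraMap A S) := FaithfulSMul.algebraMap_injective A S
  haveI : FaithfulSMul A K := (faithfulSMul_iff_algebraMap_injective _ _).2 (by
    rw [IsScalarTower.algebraMap_eq A S K]; exact (IsFractionRing.injective S K).comp hAS)
  let F := FractionRing A
  letI : Algebra F K := FractionRing.liftAlgebra _ _
  haveI : IsScalarTower A F K := FractionRing.isScalarTower_liftAlgebra _ _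
  let αB : st.ring := ⟨st.α, st.root_mem⟩
  let φ : (Fin st.f.natDegree → A) →ₗ[A] st.ring := Fintype.linearCombination A fun i : Fin st.f.natDegree => αB ^ (i : ℕ)
  have hφ : Function.Bijective φ := by
    refine ⟨(injective_iff_map_eq_zero φ).2 fun c hc => ?_, fun b => ?_⟩
    · let p : A[X] := ∑ i : Fin st.f.natDegree, C (c i) * X ^ (i : ℕ)
      have hpc : ∀ i : Fin st.f.natDegree, p.coeff i = c i := fun i => by
        rw [finsetSum_coeff, Finset.sum_eq_single i]
        · rw [coeff_C_mul, coeff_X_pow_self, mul_one]
        · intro j _ hj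
          rw [coeff_C_mul, coeff_X_pow, if_neg (fun h => hj (Fin.ext h.symm)), mul_zero]
        · exact fun h => absurd (Finset.mem_univ _) h
      suffices hp : p = 0 by funext i; rw [← hpc, hp, coeff_zero]; rfl
      by_contra hp
      have hpα : aeval st.α p = 0 := by
        have h1 : (φ c : S) = 0 := by rw [hc]; rfl
        rw [← h1, Fintype.linearCombination_apply, map_sum]
        simp [p, map_sum, αB, Algebra.smul_def]
      have hdeg : p.natDegree < st.f.natDegree := by
        rw [natDegree_lt_iff_degree_lt hp]
        exact degree_sum_fin_lt c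
      let αK : K := algebraMap S K st.α
      have hev : ∀ q : A[X], aeval αK q = algebraMap S K (aeval st.α q) := fun q => aeval_algebraMap_apply K st.α q
      have hintα : IsIntegral F αK := ⟨st.f.map (algebraMap A F), st.monic.map _, by
        rw [← aeval_def, aeval_map_algebraMap, hev, st.root, map_zero]⟩
      let g := minpoly F αK
      have hgdeg : g.natDegree ≤ p.natDegree := by
        have h1 : g ∣ p.map (algebraMap A F) := minpoly.dvd F αK (by rw [aeval_map_algebraMap, hev, hpα, map_zero])
        exact (natDegree_le_of_dvd h1 (Polynomial.map_ne_zero_iff (IsFractionRing.injective A F) |>.2 hp)).trans natDegree_map_le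
      have hgf : g.map (algebraMap F K) ∣ ∏ r ∈ st.roots, (X - C (algebraMap S K r)) := by
        have h1 := congrArg (Polynomial.map (algebraMap S K)) st.prod
        rw [Polynomial.map_map, Polynomial.map_prod, ← IsScalarTower.algebraMap_eq] at h1
        simp only [Polynomial.map_sub, map_X, map_C] at h1
        rw [← h1, IsScalarTower.algebraMap_eq A F K, ← Polynomial.map_map]
        exact Polynomial.map_dvd _ (minpoly.dvd F αK (by rw [aeval_map_algebraMap, hev, st.root, map_zero]))
      have hne : (∏ r ∈ st.roots, (X - C (algebraMap S K r))) ≠ 0 := Finset.prod_ne_zero_iff.2 fun r _ => X_sub_C_ne_zero _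
      have hspl : (g.map (algebraMap F K)).Splits := (Splits.prod fun r _ => Splits.X_sub_C _).of_dvd hne hgf
      have hroots : ∀ y ∈ (g.map (algebraMap F K)).roots, ∃ r : S, algebraMap S K r = y := fun y hy => by
        obtain ⟨c, hc'⟩ := hgf
        have h1 : (∏ r ∈ st.roots, (X - C (algebraMap S K r))).eval y = 0 := by
          rw [hc', eval_mul, (isRoot_of_mem_roots hy).eq_zero, zero_mul]
        rw [eval_prod, Finset.prod_eq_zero_iff] at h1
        obtain ⟨r, -, hr⟩ := h1
        rw [eval_sub, eval_X, eval_C, sub_eq_zero] at hr
        exact ⟨r, hr.symm⟩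
      have hlifts : g.map (algebraMap F K) ∈ lifts (algebraMap S K) := by
        rw [hspl.eq_prod_roots_of_monic ((minpoly.monic hintα).map _)]
        refine Subsemiring.multiset_prod_mem _ _ fun z hz => ?_
        obtain ⟨y, hy, rfl⟩ := Multiset.mem_map.1 hz
        obtain ⟨r, rfl⟩ := hroots y hy
        exact (mem_lifts _).2 ⟨X - C r, by simp⟩
      have hg0 : g ∈ lifts (algebraMap A F) := (lifts_iff_coeff_lifts _).2 fun i => by
        obtain ⟨s, hs⟩ := (lifts_iff_coeff_lifts _).1 hlifts i
        obtain ⟨a, c, hc', hac⟩ := IsFractionRing.div_surjective A (g.coeff i)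
        rw [coeff_map, ← hac, map_div₀, ← IsScalarTower.algebraMap_apply, ← IsScalarTower.algebraMap_apply,
          IsScalarTower.algebraMap_apply A S K, IsScalarTower.algebraMap_apply A S K c,
          eq_div_iff ((map_ne_zero_iff _ (IsFractionRing.injective S K)).2
            ((map_ne_zero_iff _ hAS).2 (nonZeroDivisors.ne_zero hc'))), ← map_mul] at hs
        have h1 : a ∈ ((Ideal.span {c}).map (algebraMap A S)).comap (algebraMap A S) := by
          rw [Ideal.mem_comap, Ideal.map_span, Set.image_singleton, Ideal.mem_span_singleton', ← IsFractionRing.injective S K hs]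
          exact ⟨s, rfl⟩
        rw [Ideal.comap_map_eq_self_of_faithfullyFlat, Ideal.mem_span_singleton] at h1
        obtain ⟨b, rfl⟩ := h1
        refine ⟨b, ?_⟩
        rw [← hac, map_mul, mul_div_cancel_left₀]
        exact (map_ne_zero_iff _ (IsFractionRing.injective A F)).2 (nonZeroDivisors.ne_zero hc')
      obtain ⟨g0, hg0m, hg0d, hg0monic⟩ := lifts_and_degree_eq_and_monic hg0 (minpoly.monic hintα)
      have hg0α : aeval st.α g0 = 0 := IsFractionRing.injective S K (by
        rw [map_zero, ← hev, ← aeval_map_algebraMap F, hg0m]
        exact minpoly.aeval F αK)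
      have h0f : aeval (residue S st.α) (st.f.map (residue A)) = 0 := by rw [← residue_aeval, st.root, map_zero]
      have h0g : aeval (residue S st.α) (g0.map (residue A)) = 0 := by rw [← residue_aeval, hg0α, map_zero]
      have heq := minpoly.eq_of_irreducible_of_monic st.irr h0f (st.monic.map _)
      have hle :=
        natDegree_le_of_dvd (heq ▸ minpoly.dvd (ResidueField A) (residue S st.α) h0g) (hg0monic.map (residue A)).ne_zero
      rw [st.monic.natDegree_map, hg0monic.natDegree_map] at hle
      have : g0.natDegree = g.natDegree := natDegree_eq_of_degree_eq hg0d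
      omega
    · obtain ⟨b, hb⟩ := b
      have hb' := hb
      rw [Stage.ring, Algebra.adjoin_singleton_eq_range_aeval] at hb'
      obtain ⟨p, rfl⟩ := hb'
      refine ⟨fun i => (p %ₘ st.f).coeff i, Subtype.ext ?_⟩
      rw [Fintype.linearCombination_apply]
      show _ = aeval st.α p
      conv_rhs => rw [← modByMonic_add_div p st.f]
      rw [map_add, map_mul, st.root, zero_mul, add_zero,
        aeval_eq_sum_range' (n := st.f.natDegree) (natDegree_modByMonic_lt _ st.monic (fun h => by
          have := st.irr.natDegree_pos
          rw [h, Polynomial.map_one, natDegree_one] at this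
          omega)),
        ← Fin.sum_univ_eq_sum_range (fun i => (p %ₘ st.f).coeff i • st.α ^ i)]
      simp [αB]
  exact Module.Free.of_equiv (LinearEquiv.ofBijective φ hφ)

include hS in
theorem exists_etale_trace (hA : EGA4.IsExcellent A) (t : Finset (FractionRing S)) :
    ∃ D : Subalgebra A S, (D : Set S) = (algebraMap S (FractionRing S)) ⁻¹'
        (Subfield.closure (Set.range (algebraMap A (FractionRing S)) ∪ (t : Set (FractionRing S))) :
          Set (FractionRing S)) ∧
      ∃ _ : IsLocalRing D, IsLocalHom (algebraMap D S) ∧ EGA4loc.IsEssentiallyEtale A D := by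
  classical
  haveI := hA.1
  let π := AlgHom.id A S
  have hπ : Function.Surjective π := fun s => ⟨s, rfl⟩
  let K := FractionRing S
  let D := traceRing (A := A) (W := S) K _ (base_mem K t)
  have hfin : Module.Finite A D := finite_traceRing π hπ K hA t
  obtain ⟨hloc, hhom, -, hunr⟩ := local_unramified π hπ K _ (base_mem K t) hfin
  obtain ⟨st, G, _, _, _, _, hle, hG, hfix⟩ := exists_stage_group π hπ K _ (base_mem K t) hfin
  refine ⟨D, rfl, hloc, hhom, ?_⟩
  let T := st.ring.map π
  have hTe : T = st.ring := Subalgebra.map_id _
  haveI : Module.Free A T := by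
    haveI := free_stage (A := A) st
    exact Module.Free.of_equiv (Subalgebra.equivOfEq _ _ hTe.symm).toLinearEquiv
  haveI : IsLocalRing T := (Subalgebra.equivOfEq _ _ hTe.symm).toRingEquiv.isLocalRing
  have hG' : ∀ σ : G, σ ≠ 1 → ∃ x : T, σ • x - x ∉ maximalIdeal T := fun σ hσ => by
    obtain ⟨x, hx⟩ := hG σ hσ
    refine ⟨x, fun h => (mem_maximalIdeal _).1 h ?_⟩
    let y : st.ring := ⟨((σ • x - x : T) : S), (SetLike.ext_iff.1 hTe _).1 (σ • x - x).2⟩
    exact (isUnit_of_map_unit (algebraMap st.ring S) y hx).map (Subalgebra.equivOfEq _ _ hTe.symm)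
  let C : Subalgebra A T := D.comap T.val
  obtain ⟨r, hr⟩ := exists_retraction hG' C hfix
  haveI : Module.Projective A C := Module.Projective.of_split C.val.toLinearMap (r.restrictScalars A) (LinearMap.ext fun c => hr c)
  let e : C ≃ₐ[A] D := AlgEquiv.ofBijective ((T.val.comp C.val).codRestrict D fun z => z.2)
    ⟨fun a b h => Subtype.ext (Subtype.ext (congrArg (fun z : D => (z : S)) h)), fun d => ⟨⟨⟨d, hle d.2⟩, d.2⟩, rfl⟩⟩
  haveI : Module.Flat A D := Module.Flat.of_linearEquiv e.symm.toLinearEquiv
  haveI := hfin
  haveI := hunr
  haveI : Algebra.FinitePresentation A D := Algebra.FinitePresentation.of_finiteType.1 (inferInstanceAs (Algebra.FiniteType A D))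
  haveI : Algebra.Etale A D := Algebra.Etale.of_formallyUnramified_of_flat
  haveI := hloc
  haveI : IsLocalHom (algebraMap A D) := ⟨fun a ha => isUnit_of_map_unit (algebraMap A S) a (ha.map (algebraMap D S))⟩
  refine ⟨D, inferInstance, inferInstance, maximalIdeal D, inferInstance, inferInstance, ?_, ⟨?_⟩⟩
  · have h0 : IsLocalHom (algebraMap A D) := inferInstance
    exact ((IsLocalRing.local_hom_TFAE (algebraMap A D)).out 0 4).mp h0
  · exact (IsLocalization.atUnits D (maximalIdeal D).primeCompl fun x hx => by
      by_contra h
      exact hx ((mem_maximalIdeal x).2 h)).restrictScalars A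

end Groth.Agent.GaloisStage
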