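/-
Noetherian subalgebras of a strict henselization: the criterion by residue fields of the normalization.
-/
import Mathlib
import Groth.Agent.GaloisStage.ClosedIff
import Groth.Agent.GaloisStage.StageExtend
import Groth.Agent.GaloisStage.EakinNagata
import Groth.Agent.Hensel.Henselization

set_option autoImplicit false
set_option linter.style.haveILetI false
universe u

open Polynomial IsLocalRing

namespace Groth.Agent.GaloisStage

variable {A S : Type u} [CommRing A] [HenselianLocalRing A] [CommRing S] [IsLocalRing S] [Algebra A S]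
  [IsLocalHom (algebraMap A S)] [hS : Hensel.IsStrictHenselization A S]

include hS in
theorem isIntegral_subalgebra (D : Subalgebra A S) : Algebra.IsIntegral A D := by
  haveI := isIntegral_S (A := A) (S := S)
  exact ⟨fun x => (isIntegral_algHom_iff D.val Subtype.val_injective).1 (Algebra.IsIntegral.isIntegral _)⟩

include hS in
theorem finite_minimalPrimes_subalgebra [IsNoetherianRing A] (D : Subalgebra A S) : (minimalPrimes D).Finite := by
  haveI := isNoetherianRing_S (A := A) (S := S)
  refine ((minimalPrimes.finite_of_isNoetherianRing S).image fun Q => Q.comap (algebraMap D S)).subset fun p hp => ?_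
  obtain ⟨Q, hQ, hQp⟩ := Ideal.exists_minimalPrimes_comap_eq (I := (⊥ : Ideal S)) (algebraMap D S) p (by
    rw [Ideal.comap_bot_of_injective (algebraMap D S) Subtype.val_injective]
    exact hp)
  exact ⟨Q, hQ, hQp⟩

/-- Every residue field of the normalization has finite separable closure over the image. -/
def SepFiniteRes (D : Subalgebra A S) : Prop :=
  ∀ (M : Ideal (integralClosure D (FractionRing D))) [M.IsMaximal],
    FiniteDimensional (Subfield.closure (Set.range (normRes D M)))
      (separableClosure (Subfield.closure (Set.range (normRes D M))) M.ResidueField)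

/-- Finitely many values span all values in a finite extension. -/
theorem exists_finset_comb {k E : Type u} [Field k] [Field E] [Algebra k E] (L : IntermediateField k E)
    [FiniteDimensional k L] {R : Type u} (χ : R → E) (h : ∀ x, χ x ∈ L) :
    ∃ W : Finset R, ∀ x, ∃ c : W → k, χ x = ∑ w, c w • χ w := by
  classical
  let N : Submodule k E := Submodule.span k (Set.range χ)
  have hle : N ≤ L.toSubalgebra.toSubmodule := Submodule.span_le.2 (by rintro _ ⟨x, rfl⟩; exact h x)
  haveI : Module.Finite k L.toSubalgebra.toSubmodule := ‹FiniteDimensional k L›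
  have hfg : N.FG := isNoetherian_submodule.1 (inferInstance : IsNoetherian k L.toSubalgebra.toSubmodule) N hle
  obtain ⟨G, hG, hGN⟩ := (Submodule.fg_span_iff_fg_span_finset_subset _).1 hfg
  choose pre hpre using fun z : G => hG z.2
  refine ⟨Finset.univ.image pre, fun x => ?_⟩
  have hle2 : Submodule.span k (G : Set E) ≤ Submodule.span k (Set.range fun w : (Finset.univ.image pre) => χ w) :=
    Submodule.span_mono fun z hz => ⟨⟨pre ⟨z, hz⟩, Finset.mem_image_of_mem pre (Finset.mem_univ _)⟩, hpre ⟨z, hz⟩⟩
  have hx : χ x ∈ Submodule.span k (G : Set E) := by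
    rw [← hGN]
    exact Submodule.subset_span ⟨x, rfl⟩
  obtain ⟨c, hc⟩ := (Submodule.mem_span_range_iff_exists_fun k).1 (hle2 hx)
  exact ⟨c, hc.symm⟩

omit hS in
theorem normRes_mem_separableClosure (D : Subalgebra A S) [IsLocalRing D] (M : Ideal (integralClosure D (FractionRing D)))
    [M.IsMaximal] {R : Type u} [CommRing R] (r : R →+* ResidueField S) (dR : D →+* R)
    (hr : r.comp dR = (residue S).comp (algebraMap D S)) (χ : R →+* M.ResidueField)
    (hχD : χ.comp dR = normRes D M) (hiff : ∀ x, r x = 0 ↔ χ x = 0) {g : D[X]} (hg : (g.map (residue D)).Separable)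
    {x : R} (hgx : g.eval₂ ((residue S).comp (algebraMap D S)) (r x) = 0) :
    χ x ∈ separableClosure (Subfield.closure (Set.range (normRes D M))) M.ResidueField := by
  refine mem_separableClosure_iff.2 (isSeparable_of_lift D M hg ?_)
  rw [← hχD, ← hom_eval₂, ← hiff, hom_eval₂, hr]
  exact hgx

/-- Finitely many elements whose values control all values. -/
theorem exists_finset_control {D R k E Ω : Type u} [CommRing D] [CommRing R] [Field k] [Field E] [Field Ω] [Algebra k E]
    (L : IntermediateField k E) [FiniteDimensional k L] (r : R →+* Ω) (dR : D →+* R) (χ : R →+* E)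
    (hiff : ∀ x, r x = 0 ↔ χ x = 0) (hL : ∀ x, χ x ∈ L) (hk : ∀ c : k, ∃ d, χ (dR d) = algebraMap k E c) :
    ∃ W : Finset R, ∀ τ : Ω →+* Ω, (∀ d, τ (r (dR d)) = r (dR d)) → (∀ w ∈ W, τ (r w) = r w) → ∀ x, τ (r x) = r x := by
  classical
  obtain ⟨W, hW⟩ := exists_finset_comb L (fun x => χ x) hL
  refine ⟨W, fun τ hτD hτW x => ?_⟩
  obtain ⟨c, hc⟩ := hW x
  choose d hd using fun z : W => hk (c z)
  have h0 : χ (x - ∑ z : W, dR (d z) * (z : R)) = 0 := by
    rw [map_sub, map_sum, hc, sub_eq_zero]
    refine Finset.sum_congr rfl fun z _ => ?_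
    rw [map_mul, hd, Algebra.smul_def]
  rw [← hiff, map_sub, map_sum, sub_eq_zero] at h0
  rw [h0, map_sum]
  refine Finset.sum_congr rfl fun z _ => ?_
  rw [map_mul r, map_mul, hτD, hτW _ z.2]

omit hS in
theorem exists_finite_residue_aux (D : Subalgebra A S) [IsLocalRing D] (M : Ideal (integralClosure D (FractionRing D)))
    [M.IsMaximal] (hfd : FiniteDimensional (Subfield.closure (Set.range (normRes D M)))
      (separableClosure (Subfield.closure (Set.range (normRes D M))) M.ResidueField))
    {R : Type u} [CommRing R] (r : R →+* ResidueField S) (dR : D →+* R)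
    (hr : r.comp dR = (residue S).comp (algebraMap D S)) (χ : R →+* M.ResidueField)
    (hχD : χ.comp dR = normRes D M) (hiff : ∀ x, r x = 0 ↔ χ x = 0)
    (hsep : ∀ x, ∃ g : D[X], (g.map (residue D)).Separable ∧ g.eval₂ ((residue S).comp (algebraMap D S)) (r x) = 0) :
    ∃ W : Finset R, ∀ τ : ResidueField S →+* ResidueField S, (∀ d : D, τ (residue S (d : S)) = residue S (d : S)) →
      (∀ w ∈ W, τ (r w) = r w) → ∀ x, τ (r x) = r x := by
  obtain ⟨W, hW⟩ := exists_finset_control (separableClosure (Subfield.closure (Set.range (normRes D M))) M.ResidueField)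
    r dR χ hiff (fun x => by
      obtain ⟨g, hg, hgx⟩ := hsep x
      exact normRes_mem_separableClosure D M r dR hr χ hχD hiff hg hgx) (fun c => by
      obtain ⟨d, hd⟩ := (mem_closure_normRes D M).1 c.2
      exact ⟨d, (RingHom.congr_fun hχD d).trans hd⟩)
  refine ⟨W, fun τ hτD hτW x => hW τ (fun d => ?_) hτW x⟩
  rw [← RingHom.comp_apply r dR, hr]
  exact hτD d

include hS in
theorem exists_finite_residue [IsReduced S] [IsNoetherianRing A] (D : Subalgebra A S) (hcl : SepFiniteRes D)
    (Q : Ideal S) (hQ : Q ∈ minimalPrimes S) [Q.IsPrime] :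
    ∃ F : Finset S, ∀ τ ∈ resFix D, (∀ s ∈ F, τ (residue S s) = residue S s) →
      ∀ w : S, algebraMap (S ⧸ Q) (FractionRing (S ⧸ Q)) (Ideal.Quotient.mk Q w) ∈ branchField D Q →
        τ (residue S w) = residue S w := by
  classical
  haveI := isLocalRing_subalgebra D
  obtain ⟨M, hM, χ, hχ⟩ := exists_branch_residue' D (finite_minimalPrimes_subalgebra D) Q hQ
  have hiff : ∀ x : branchRing D Q, quotRes Q (x : S ⧸ Q) = 0 ↔ χ x = 0 := fun x =>
    ⟨branch_residue_kills D Q M χ hχ x, fun h => by
      rw [quotRes_eq_zero_iff]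
      exact fun hu => ((isUnit_branchRing D Q x hu).map χ).ne_zero h⟩
  obtain ⟨W, hW⟩ := exists_finite_residue_aux D M (hcl M) ((quotRes Q).comp (branchRing D Q).val.toRingHom)
    (branchIncl D Q) (RingHom.ext fun x => rfl) χ hχ hiff (fun x => by
      obtain ⟨s, hs⟩ := Ideal.Quotient.mk_surjective (x : S ⧸ Q)
      obtain ⟨g, -, hg, hgs⟩ := exists_residual_poly D s
      refine ⟨g, hg, ?_⟩
      show g.eval₂ _ (quotRes Q (x : S ⧸ Q)) = 0
      rw [← hs]
      exact hgs)
  choose rep hrep using fun x : branchRing D Q => Ideal.Quotient.mk_surjective (x : S ⧸ Q)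
  have hrep' : ∀ x : branchRing D Q, quotRes Q (x : S ⧸ Q) = residue S (rep x) := fun x => by rw [← hrep x]; rfl
  refine ⟨W.image rep, fun τ hτ hτF w hw => hW (τ : ResidueField S →+* ResidueField S) (fun d => hτ _ d.2)
    (fun x hx => ?_) ⟨Ideal.Quotient.mk Q w, hw⟩⟩
  show τ (quotRes Q (x : S ⧸ Q)) = quotRes Q (x : S ⧸ Q)
  rw [hrep']
  exact hτF _ (Finset.mem_image_of_mem rep hx)

include hS in
theorem fix_adjoin (D : Subalgebra A S) (G : Set S) (τ : ResGal A S) (hG : ∀ s ∈ G, τ • s = s)
    (hD : ∀ d ∈ D, τ • d = d) {x : S} (hx : x ∈ Algebra.adjoin D G) : τ • x = x := by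
  induction hx using Algebra.adjoin_induction with
  | mem x hx => exact hG x hx
  | algebraMap d => exact hD d d.2
  | add x y _ _ hx hy => rw [smul_add, hx, hy]
  | mul x y _ _ hx hy => rw [smul_mul', hx, hy]

include hS in
theorem isNoetherianRing_of_fix_adjoin [IsNoetherianRing A] [IsNoetherianRing S] (D : Subalgebra A S) (G : Finset S)
    (hfix : ∀ τ ∈ resFix ((Algebra.adjoin D (G : Set S)).restrictScalars A),
      (∀ s ∈ G, τ • s = s) ∧ ∀ d ∈ D, τ • d = d) : IsNoetherianRing D := by
  haveI : IsNoetherianRing (Algebra.adjoin D (G : Set S)) :=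
    isNoetherianRing_of_fix ((Algebra.adjoin D (G : Set S)).restrictScalars A) fun τ hτ x hx =>
      fix_adjoin D _ τ (hfix τ hτ).1 (hfix τ hτ).2 hx
  haveI := isIntegral_S (A := A) (S := S)
  haveI : Module.Finite D (Algebra.adjoin D (G : Set S)) := Module.Finite.iff_fg.2
    (fg_adjoin_of_finite (Finset.finite_toSet G) fun x _ => (Algebra.IsIntegral.isIntegral (R := A) x).tower_top)
  haveI : FaithfulSMul D (Algebra.adjoin D (G : Set S)) := (faithfulSMul_iff_algebraMap_injective _ _).2
    fun a b h => Subtype.ext (congrArg (fun z : Algebra.adjoin D (G : Set S) => (z : S)) h)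
  exact isNoetherianRing_of_finite_extension D (Algebra.adjoin D (G : Set S))

include hS in
theorem exists_finite_fixing [IsReduced S] [IsNoetherianRing A] (D : Subalgebra A S) (hcl : SepFiniteRes D) :
    ∃ F : Finset S, ∀ τ ∈ resFix D, (∀ s ∈ F, τ (residue S s) = residue S s) → ∀ d ∈ D, τ • d = d := by
  classical
  haveI := isNoetherianRing_S (A := A) (S := S)
  have hfinQ := minimalPrimes.finite_of_isNoetherianRing S
  have hF : ∀ Q : hfinQ.toFinset, ∃ F : Finset S, ∀ τ ∈ resFix D, (∀ s ∈ F, τ (residue S s) = residue S s) →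
      ∀ d : S, d ∈ D → τ • d - d ∈ (Q : Ideal S) := by
    intro Q
    have hQ := hfinQ.mem_toFinset.1 Q.2
    haveI := hQ.isPrime
    obtain ⟨F, hF⟩ := exists_finite_residue D hcl Q hQ
    refine ⟨F, fun τ hτ hτF d hd => ?_⟩
    obtain ⟨st, hst⟩ := exists_stage A ({d} : Finset S)
    exact (exists_match_stage D Q τ (hF τ hτ hτF) st d (hst (by simp))).2 hd
  choose F hF using hF
  refine ⟨Finset.univ.biUnion F, fun τ hτ hτF d hd => ?_⟩
  have h1 : τ • d - d ∈ sInf (minimalPrimes S) := Submodule.mem_sInf.2 fun Q hQ =>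
    hF ⟨Q, hfinQ.mem_toFinset.2 hQ⟩ τ hτ
      (fun s hs => hτF s (Finset.mem_biUnion.2 ⟨_, Finset.mem_univ _, hs⟩)) d hd
  rw [minimalPrimes, Ideal.sInf_minimalPrimes] at h1
  obtain ⟨n, hn⟩ := h1
  exact sub_eq_zero.1 (IsNilpotent.eq_zero ⟨n, Ideal.mem_bot.1 hn⟩)

omit [HenselianLocalRing A] [IsLocalRing S] [IsLocalHom (algebraMap A S)] hS in
theorem le_adjoin_restrict (D : Subalgebra A S) (G : Set S) : D ≤ (Algebra.adjoin D G).restrictScalars A :=
  fun z hz => (Algebra.adjoin D G).algebraMap_mem ⟨z, hz⟩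

omit hS in
theorem resFix_anti {D D' : Subalgebra A S} (h : D ≤ D') : resFix D' ≤ resFix D := fun _ hτ d hd => hτ d (h hd)

omit hS in
theorem resFix_residue {D : Subalgebra A S} {τ : ResGal A S} (hτ : τ ∈ resFix D) {d : S} (hd : d ∈ D) :
    τ (residue S d) = residue S d := hτ d hd

omit [HenselianLocalRing A] [IsLocalRing S] [IsLocalHom (algebraMap A S)] hS in
theorem mem_adjoin_restrict (D : Subalgebra A S) (G : Set S) {z : S} (hz : z ∈ G) :
    z ∈ (Algebra.adjoin D G).restrictScalars A := Algebra.subset_adjoin hz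

include hS in
/-- The residual finiteness condition implies the Noetherian property. -/
theorem isNoetherianRing_of_sepFiniteRes [IsReduced S] [IsNoetherianRing A] (D : Subalgebra A S)
    (hcl : SepFiniteRes D) : IsNoetherianRing D := by
  classical
  haveI := isNoetherianRing_S (A := A) (S := S)
  obtain ⟨F, hF⟩ := exists_finite_fixing D hcl
  choose α f hf hα hαd hαr hfm using fun s : S => exists_simpleRoot (A := A) (residue S s)
  refine isNoetherianRing_of_fix_adjoin D (F.image α) fun τ hτ => ⟨fun s hs => ?_, ?_⟩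
  · obtain ⟨s', -, rfl⟩ := Finset.mem_image.1 hs
    exact smul_eq_of_residue (hα s') (hαd s') (resFix_residue hτ (mem_adjoin_restrict D _ hs))
  · refine hF τ (resFix_anti (le_adjoin_restrict D _) hτ) fun s hs => ?_
    rw [← hαr s]
    exact resFix_residue hτ (mem_adjoin_restrict D _ (Finset.mem_coe.2 (Finset.mem_image_of_mem α hs)))

end Groth.Agent.GaloisStage
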