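/-
Noetherian henselian local reduced rings: the separable part of the residue fields of the normalization is finite.
-/
import Mathlib
import Groth.Agent.GaloisStage.NoethCrit

set_option autoImplicit false
set_option linter.style.haveILetI false
universe u

open Polynomial IsLocalRing

namespace Groth.Agent.GaloisStage

/-- A free extension preserves non-zero-divisors. -/
theorem nonZeroDivisors_le_comap_of_free {D T : Type u} [CommRing D] [CommRing T] [Algebra D T] [Module.Free D T] :
    nonZeroDivisors D ≤ (nonZeroDivisors T).comap (algebraMap D T) := by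
  intro d hd
  rw [Submonoid.mem_comap, mem_nonZeroDivisors_iff_right]
  intro x hx
  let b := Module.Free.chooseBasis D T
  refine b.ext_elem fun i => ?_
  have h1 := congrArg (fun z => b.repr z i) (show d • x = 0 by rw [Algebra.smul_def, mul_comm]; exact hx)
  simp only [map_smul, Finsupp.smul_apply, map_zero, Finsupp.coe_zero, Pi.zero_apply, smul_eq_mul] at h1 ⊢
  exact mem_nonZeroDivisors_iff_right.1 hd _ (by rw [mul_comm]; exact h1)

/-- Comparing separable closures along a map of fields onto a finitely spanned subfield. -/
theorem finiteDimensional_separableClosure_of_map {D T E E1 : Type u} [CommRing D] [CommRing T] [Algebra D T]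
    [Module.Finite D T] [Field E] [Field E1] (f : D →+* E) (f1 : T →+* E1) (ι : E →+* E1)
    (hι : ι.comp f = f1.comp (algebraMap D T)) (k : Subfield E) (hk : ∀ d, f d ∈ k) (k1 : Subfield E1)
    (hk1 : ∀ z ∈ k, ι z ∈ k1) (hk1' : ∀ z ∈ k1, ∃ t, f1 t = z) (hcl : separableClosure k1 E1 = ⊥) :
    FiniteDimensional k (separableClosure k E) := by
  classical
  letI : Algebra k E1 := (ι.comp k.subtype).toAlgebra
  obtain ⟨n, g, hg⟩ := Module.Finite.exists_fin (R := D) (M := T)
  let N : Submodule k E1 := Submodule.span k (Set.range fun i => f1 (g i))
  have hT : ∀ t, f1 t ∈ N := fun t => by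
    have ht : t ∈ Submodule.span D (Set.range g) := hg ▸ Submodule.mem_top
    induction ht using Submodule.span_induction with
    | mem x hx => obtain ⟨i, rfl⟩ := hx; exact Submodule.subset_span ⟨i, rfl⟩
    | zero => rw [map_zero]; exact N.zero_mem
    | add x y _ _ hx hy => rw [map_add]; exact N.add_mem hx hy
    | smul d x _ hx =>
      rw [Algebra.smul_def, map_mul, ← RingHom.comp_apply f1 (algebraMap D T), ← hι,
        show (ι.comp f) d = algebraMap k E1 ⟨f d, hk d⟩ from rfl, ← Algebra.smul_def]
      exact N.smul_mem _ hx
  have hsep : ∀ z : separableClosure k E, ι (z : E) ∈ N := fun z => by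
    have hz := mem_separableClosure_iff.1 z.2
    let i : k →+* k1 := (ι.comp k.subtype).codRestrict k1 fun c => hk1 _ c.2
    have h2 : aeval (ι (z : E)) ((minpoly k (z : E)).map i) = 0 := by
      rw [aeval_def, eval₂_map, show (algebraMap k1 E1).comp i = ι.comp (algebraMap k E) from RingHom.ext fun c => rfl,
        ← hom_eval₂, ← aeval_def, minpoly.aeval, map_zero]
    have h3 : IsSeparable k1 (ι (z : E)) := (Separable.map hz).of_dvd (minpoly.dvd k1 _ h2)
    have h4 := mem_separableClosure_iff.2 h3
    rw [hcl, IntermediateField.mem_bot] at h4
    obtain ⟨y, hy⟩ := h4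
    obtain ⟨t, ht⟩ := hk1' _ y.2
    rw [← hy, show algebraMap k1 E1 y = (y : E1) from rfl, ← ht]
    exact hT t
  haveI : Module.Finite k N := Module.Finite.span_of_finite k (Set.finite_range _)
  let φ : separableClosure k E →ₗ[k] N :=
    { toFun := fun z => ⟨ι (z : E), hsep z⟩
      map_add' := fun x y => Subtype.ext (map_add ι (x : E) (y : E))
      map_smul' := fun c x => Subtype.ext (by
        show ι ((c : E) * (x : E)) = algebraMap k E1 c * ι (x : E)
        rw [map_mul]; rfl) }
  exact Module.Finite.of_injective φ fun a b h => Subtype.ext (ι.injective (congrArg (fun w : N => (w : E1)) h))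

/-- The induced map of residue fields. -/
theorem exists_residue_map {P P1 : Type u} [CommRing P] [CommRing P1] (j : P →+* P1) (M : Ideal P) [M.IsPrime]
    (M1 : Ideal P1) [M1.IsPrime] (h : M1.comap j = M) :
    ∃ ι : M.ResidueField →+* M1.ResidueField, ∀ x, ι (algebraMap P M.ResidueField x) = algebraMap P1 M1.ResidueField (j x) := by
  refine ⟨Ideal.ResidueField.lift M ((algebraMap _ M1.ResidueField).comp j) (fun x hx => ?_) (fun x hx => ?_),
    fun x => Ideal.ResidueField.lift_algebraMap M _ _ _ x⟩
  · rw [← h] at hx
    exact (Ideal.algebraMap_residueField_eq_zero (I := M1)).2 hx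
  · refine isUnit_iff_ne_zero.2 fun h0 => hx ?_
    show x ∈ M
    rw [← h]
    exact (Ideal.algebraMap_residueField_eq_zero (I := M1)).1 h0

/-- The map between normalizations along a free finite extension. -/
theorem exists_normalization_hom (D T : Type u) [CommRing D] [CommRing T] [Algebra D T] [Module.Free D T]
    [FaithfulSMul D T] :
    ∃ jC : integralClosure D (FractionRing D) →+* integralClosure T (FractionRing T), Function.Injective jC ∧
      jC.comp (algebraMap D (integralClosure D (FractionRing D))) =
        (algebraMap T (integralClosure T (FractionRing T))).comp (algebraMap D T) := by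
  let j : FractionRing D →+* FractionRing T :=
    IsLocalization.map (M := nonZeroDivisors D) (T := nonZeroDivisors T) (FractionRing T) (algebraMap D T)
      nonZeroDivisors_le_comap_of_free
  have hjD : ∀ d : D, j (algebraMap D _ d) = algebraMap D (FractionRing T) d := fun d =>
    (IsLocalization.map_eq _ d).trans (IsScalarTower.algebraMap_apply D T (FractionRing T) d).symm
  have hjinj : Function.Injective j := by
    rw [injective_iff_map_eq_zero]
    intro x hx
    obtain ⟨a, s, rfl⟩ := IsLocalization.exists_mk'_eq (nonZeroDivisors D) x
    rw [IsLocalization.map_mk', IsLocalization.mk'_eq_zero_iff] at hx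
    obtain ⟨c, hc⟩ := hx
    have h1 : algebraMap D T a = 0 := mem_nonZeroDivisors_iff_left.1 c.2 _ hc
    rw [FaithfulSMul.algebraMap_injective D T (h1.trans (map_zero _).symm), IsLocalization.mk'_zero]
  let jA : FractionRing D →ₐ[D] FractionRing T := { j with commutes' := hjD }
  refine ⟨(j.comp (algebraMap _ (FractionRing D))).codRestrict (integralClosure T (FractionRing T)).toSubring fun x =>
      (show IsIntegral D (jA (x : FractionRing D)) from IsIntegral.map jA x.2).tower_top,
    fun x y h => Subtype.ext (hjinj (congrArg (fun z : integralClosure T (FractionRing T) => (z : FractionRing T)) h)),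
    RingHom.ext fun d => Subtype.ext ((hjD d).trans (IsScalarTower.algebraMap_apply D T (FractionRing T) d))⟩

/-- Lying over for an injective map of normalizations. -/
theorem exists_over {D T P P1 : Type u} [CommRing D] [CommRing T] [CommRing P] [CommRing P1] [Algebra D T]
    [Algebra.IsIntegral D T] [Algebra D P] [Algebra T P1] [Algebra.IsIntegral T P1] (jC : P →+* P1)
    (hinj : Function.Injective jC) (hc : jC.comp (algebraMap D P) = (algebraMap T P1).comp (algebraMap D T))
    (M : Ideal P) [M.IsMaximal] : ∃ M1 : Ideal P1, M1.IsMaximal ∧ M1.comap jC = M := by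
  letI : Algebra P P1 := jC.toAlgebra
  letI : Algebra D P1 := ((algebraMap T P1).comp (algebraMap D T)).toAlgebra
  haveI : IsScalarTower D T P1 := IsScalarTower.of_algebraMap_eq fun d => rfl
  haveI : IsScalarTower D P P1 := IsScalarTower.of_algebraMap_eq fun d => (RingHom.congr_fun hc d).symm
  haveI : Algebra.IsIntegral D P1 := Algebra.IsIntegral.trans T
  haveI : Algebra.IsIntegral P P1 := Algebra.IsIntegral.tower_top (R := D)
  exact Ideal.exists_ideal_over_maximal_of_isIntegral (S := P1) M fun x hx => by
    rw [show x = 0 from hinj ((RingHom.mem_ker.1 hx).trans (map_zero jC).symm)]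
    exact M.zero_mem

/-- The map of residue fields of normalizations along a free finite extension. -/
theorem exists_normalization_map (D T : Type u) [CommRing D] [CommRing T] [Algebra D T] [Module.Free D T]
    [Module.Finite D T] [FaithfulSMul D T] (M : Ideal (integralClosure D (FractionRing D))) [M.IsMaximal] :
    ∃ (M1 : Ideal (integralClosure T (FractionRing T))) (_ : M1.IsMaximal)
      (ι : M.ResidueField →+* M1.ResidueField),
      ι.comp ((algebraMap _ M.ResidueField).comp (algebraMap D (integralClosure D (FractionRing D)))) =
        ((algebraMap _ M1.ResidueField).comp (algebraMap T (integralClosure T (FractionRing T)))).comp (algebraMap D T) := by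
  obtain ⟨jC, hinj, hc⟩ := exists_normalization_hom D T
  haveI : Algebra.IsIntegral D T := Algebra.IsIntegral.of_finite D T
  obtain ⟨M1, hM1, hcomap⟩ := exists_over jC hinj hc M
  haveI := hM1
  obtain ⟨ι, hι⟩ := exists_residue_map jC M M1 hcomap
  refine ⟨M1, hM1, ι, RingHom.ext fun d => ?_⟩
  rw [RingHom.comp_apply, RingHom.comp_apply, hι]
  exact congrArg (algebraMap _ M1.ResidueField) (RingHom.congr_fun hc d)

theorem faithfulSMul_stage {D S : Type u} [CommRing D] [HenselianLocalRing D] [CommRing S]
    [IsLocalRing S] [Algebra D S] [IsLocalHom (algebraMap D S)] [Hensel.IsStrictHenselization D S]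
    (st : Stage D S) : FaithfulSMul D st.ring :=
  (faithfulSMul_iff_algebraMap_injective _ _).2 fun a b h => by
    haveI := S0539.result D S
    exact FaithfulSMul.algebraMap_injective D S (congrArg (fun z : st.ring => (z : S)) h)

/-- A stage over the base with all minimal primes extended. -/
theorem exists_sepClosedRes_stage {D S : Type u} [CommRing D] [HenselianLocalRing D] [IsNoetherianRing D] [CommRing S]
    [IsLocalRing S] [Algebra D S] [IsLocalHom (algebraMap D S)] [Hensel.IsStrictHenselization D S] [IsReduced S] :
    ∃ st : Stage D S, SepClosedRes st.ring := by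
  classical
  haveI := isNoetherianRing_S (A := D) (S := S)
  have hfin := minimalPrimes.finite_of_isNoetherianRing S
  have hfg : ∀ Q : Ideal S, ∃ G : Finset S, Ideal.span (G : Set S) = Q := fun Q => IsNoetherian.noetherian Q
  choose G hG using hfg
  obtain ⟨st, hst⟩ := exists_stage D (hfin.toFinset.biUnion G)
  refine ⟨st, sepClosedRes_of_fix_and_stable st.ring (fun τ hτ d hd => st.fixed hτ hd) fun Q hQ τ hτ x hx =>
    st.stable Q (G Q) (hG Q) (fun a ha => hst (Finset.mem_coe.2 (Finset.mem_biUnion.2 ⟨Q, hfin.mem_toFinset.2 hQ, ha⟩))) hτ hx⟩

theorem sepFinite_of_stage {D S : Type u} [CommRing D] [HenselianLocalRing D] [IsNoetherianRing D] [CommRing S]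
    [IsLocalRing S] [Algebra D S] [IsLocalHom (algebraMap D S)] [Hensel.IsStrictHenselization D S] [IsReduced S]
    (M : Ideal (integralClosure D (FractionRing D))) [M.IsMaximal] :
    FiniteDimensional (Subfield.closure (Set.range ((algebraMap (integralClosure D (FractionRing D)) M.ResidueField).comp
        (algebraMap D (integralClosure D (FractionRing D))))))
      (separableClosure (Subfield.closure (Set.range ((algebraMap (integralClosure D (FractionRing D)) M.ResidueField).comp
        (algebraMap D (integralClosure D (FractionRing D)))))) M.ResidueField) := by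
  obtain ⟨st, hcl⟩ := exists_sepClosedRes_stage (D := D) (S := S)
  haveI := st.free
  haveI := faithfulSMul_stage st
  obtain ⟨M1, hM1, ι, hι⟩ := exists_normalization_map D st.ring M
  haveI := hM1
  refine finiteDimensional_separableClosure_of_map _ (normRes st.ring M1) ι hι _ (fun d => Subfield.subset_closure ⟨d, rfl⟩)
    (Subfield.closure (Set.range (normRes st.ring M1))) (fun z hz => ?_) (fun z hz => (mem_closure_normRes st.ring M1).1 hz)
    (hcl M1)
  have h1 : Subfield.closure (Set.range ((algebraMap (integralClosure D (FractionRing D)) M.ResidueField).comp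
      (algebraMap D (integralClosure D (FractionRing D))))) ≤ (Subfield.closure (Set.range (normRes st.ring M1))).comap ι :=
    Subfield.closure_le.2 (by
      rintro _ ⟨d, rfl⟩
      exact Subfield.subset_closure ⟨algebraMap D st.ring d, (RingHom.congr_fun hι d).symm⟩)
  exact h1 hz

/-- In a Noetherian reduced henselian local ring the separable part of each normalization residue field is finite. -/
theorem sepFinite_of_noetherian (D : Type u) [CommRing D] [HenselianLocalRing D] [IsNoetherianRing D] [IsReduced D]
    (M : Ideal (integralClosure D (FractionRing D))) [M.IsMaximal] :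
    FiniteDimensional (Subfield.closure (Set.range ((algebraMap (integralClosure D (FractionRing D)) M.ResidueField).comp
        (algebraMap D (integralClosure D (FractionRing D))))))
      (separableClosure (Subfield.closure (Set.range ((algebraMap (integralClosure D (FractionRing D)) M.ResidueField).comp
        (algebraMap D (integralClosure D (FractionRing D)))))) M.ResidueField) := by
  obtain ⟨hl, hS⟩ := Hensel.exists_strictHenselization D
  haveI := hl
  haveI := hS
  haveI := (S2747.result D (Hensel.Env D (SeparableClosure (ResidueField D)))).2 ‹IsReduced D›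
  exact sepFinite_of_stage (S := Hensel.Env D (SeparableClosure (ResidueField D))) M

end Groth.Agent.GaloisStage
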